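import Mathlib

/-!
# Finite projective modules of rank one: endomorphisms are scalars (helper2)
-/

set_option autoImplicit false
open scoped TensorProduct

namespace Groth.Agent.Helper2.RankOne

universe u v

lemma free_smul_comm {S M : Type*} [CommRing S] [AddCommGroup M] [Module S M] [Module.Free S M]
    [Module.Finite S M] (h : Module.finrank S M = 1) (ψ : M →ₗ[S] S) (a b : M) :
    ψ b • a = ψ a • b := by
  rcases subsingleton_or_nontrivial S with hS | hS
  · haveI := Module.subsingleton S M
    exact Subsingleton.elim _ _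
  let bas := Module.finBasisOfFinrankEq S M h
  let e : M ≃ₗ[S] S := bas.equivFun ≪≫ₗ LinearEquiv.funUnique (Fin 1) S S
  have key : ∀ c : M, c = e c • e.symm 1 := fun c => by
    rw [← map_smul, smul_eq_mul, mul_one, e.symm_apply_apply]
  rw [key a, key b]
  simp only [map_smul, smul_eq_mul, smul_smul]
  congr 1
  ring

lemma free_faithful {S M : Type*} [CommRing S] [AddCommGroup M] [Module S M] [Module.Free S M]
    [Module.Finite S M] (h : Module.finrank S M = 1) (r : S) (hr : ∀ a : M, r • a = 0) : r = 0 := by
  rcases subsingleton_or_nontrivial S with hS | hS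
  · exact Subsingleton.elim _ _
  let bas := Module.finBasisOfFinrankEq S M h
  let e : M ≃ₗ[S] S := bas.equivFun ≪≫ₗ LinearEquiv.funUnique (Fin 1) S S
  have := congrArg e (hr (e.symm 1))
  rwa [map_smul, e.apply_symm_apply, map_zero, smul_eq_mul, mul_one] at this

variable {R : Type u} [CommRing R] {L : Type v} [AddCommGroup L] [Module R L]
  [Module.Finite R L] [Module.Projective R L]

/-- the rank one identity `φ(y) x = φ(x) y` -/
theorem apply_smul_comm (h : ∀ q : PrimeSpectrum R, Module.rankAtStalk L q = 1)
    (φ : L →ₗ[R] R) (x y : L) : φ y • x = φ x • y := by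
  refine Module.eq_of_localization_maximal
    (fun (P : Ideal R) [P.IsMaximal] => Localization.AtPrime P ⊗[R] L)
    (fun (P : Ideal R) [P.IsMaximal] => TensorProduct.mk R (Localization.AtPrime P) L 1) _ _ ?_
  intro P hP
  set RP := Localization.AtPrime P with hRP
  haveI : Module.Free RP (RP ⊗[R] L) := Module.free_of_flat_of_isLocalRing
  have hfin : Module.finrank RP (RP ⊗[R] L) = 1 := by
    rw [← h ⟨P, hP.isPrime⟩, Module.rankAtStalk_eq_finrank_tensorProduct]
  let φP : RP ⊗[R] L →ₗ[RP] RP :=
    (TensorProduct.AlgebraTensorModule.rid R RP RP).toLinearMap ∘ₗ LinearMap.baseChange RP φ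
  have hφP : ∀ z : L, φP ((1 : RP) ⊗ₜ[R] z) = algebraMap R RP (φ z) := by
    intro z
    show (TensorProduct.AlgebraTensorModule.rid R RP RP) (LinearMap.baseChange RP φ ((1 : RP) ⊗ₜ[R] z)) = _
    rw [LinearMap.baseChange_tmul, TensorProduct.AlgebraTensorModule.rid_tmul,
      Algebra.algebraMap_eq_smul_one]
  have key := free_smul_comm hfin φP ((1 : RP) ⊗ₜ[R] x) ((1 : RP) ⊗ₜ[R] y)
  rw [hφP, hφP, algebraMap_smul, algebraMap_smul, ← TensorProduct.tmul_smul,
    ← TensorProduct.tmul_smul] at key
  exact key

/-- a finite projective module of rank one everywhere is faithful -/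
theorem faithful (h : ∀ q : PrimeSpectrum R, Module.rankAtStalk L q = 1)
    (r : R) (hr : ∀ x : L, r • x = 0) : r = 0 := by
  refine eq_zero_of_localization r fun P hP => ?_
  set RP := Localization.AtPrime P with hRP
  haveI : Module.Free RP (RP ⊗[R] L) := Module.free_of_flat_of_isLocalRing
  have hfin : Module.finrank RP (RP ⊗[R] L) = 1 := by
    rw [← h ⟨P, hP.isPrime⟩, Module.rankAtStalk_eq_finrank_tensorProduct]
  refine free_faithful hfin _ fun w => ?_
  induction w using TensorProduct.induction_on with
  | zero => rw [smul_zero]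
  | add s t hs ht => rw [smul_add, hs, ht, add_zero]
  | tmul c x =>
    rw [algebraMap_smul, ← TensorProduct.tmul_smul, hr, TensorProduct.tmul_zero]

/-- every endomorphism of a finite projective module of rank one is a scalar -/
theorem exists_eq_smul_id (h : ∀ q : PrimeSpectrum R, Module.rankAtStalk L q = 1)
    (f : L →ₗ[R] L) : ∃ r : R, ∀ y : L, f y = r • y := by
  obtain ⟨n, s, g, -, -, hsg⟩ := Module.Finite.exists_comp_eq_id_of_projective R L
  refine ⟨∑ i : Fin n, g (f (s (Pi.single i 1))) i, fun y => ?_⟩
  have hy : y = ∑ i : Fin n, (g y i) • s (Pi.single i 1) := by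
    conv_lhs => rw [← LinearMap.id_apply (R := R) y, ← hsg, LinearMap.comp_apply]
    conv_lhs => rw [← Finset.univ_sum_single (g y)]
    rw [map_sum]
    refine Finset.sum_congr rfl fun i _ => ?_
    rw [← map_smul]
    congr 1
    ext j
    simp [Pi.single_apply]
  conv_lhs => rw [hy]
  rw [map_sum, Finset.sum_smul]
  refine Finset.sum_congr rfl fun i _ => ?_
  rw [map_smul]
  exact apply_smul_comm h ((LinearMap.proj i) ∘ₗ g) (f (s (Pi.single i 1))) y

/-- a finite projective module of rank one everywhere is invertible -/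
theorem invertible (h : ∀ q : PrimeSpectrum R, Module.rankAtStalk L q = 1) :
    Module.Invertible R L := by
  obtain ⟨n, s, g, -, -, hsg⟩ := Module.Finite.exists_comp_eq_id_of_projective R L
  let xk : Fin n → L := fun k => s (Pi.single k 1)
  let φk : Fin n → Module.Dual R L := fun k => (LinearMap.proj k) ∘ₗ g
  have hy : ∀ y : L, y = ∑ k : Fin n, (φk k y) • xk k := by
    intro y
    conv_lhs => rw [← LinearMap.id_apply (R := R) y, ← hsg, LinearMap.comp_apply]
    conv_lhs => rw [← Finset.univ_sum_single (g y)]
    rw [map_sum]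
    refine Finset.sum_congr rfl fun i _ => ?_
    rw [← map_smul]
    congr 1
    ext j
    simp [φk, Pi.single_apply]
  have htr : ∑ k : Fin n, φk k (xk k) = 1 := by
    have h0 : ∀ y : L, ((∑ k : Fin n, φk k (xk k)) - 1) • y = 0 := by
      intro y
      rw [sub_smul, one_smul, Finset.sum_smul, sub_eq_zero]
      conv_rhs => rw [hy y]
      exact Finset.sum_congr rfl fun k _ => (apply_smul_comm h (φk k) (xk k) y).symm
    exact sub_eq_zero.mp (faithful h _ h0)
  have key : ∀ w : Module.Dual R L ⊗[R] L,
      w = contractLeft R L w • ∑ k : Fin n, φk k ⊗ₜ[R] xk k := by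
    intro w
    induction w using TensorProduct.induction_on with
    | zero => rw [map_zero, zero_smul]
    | add a b ha hb => rw [map_add, add_smul, ← ha, ← hb]
    | tmul ψ y =>
      rw [contractLeft_apply, Finset.smul_sum]
      conv_lhs => rw [hy y, TensorProduct.tmul_sum]
      refine Finset.sum_congr rfl fun k _ => ?_
      rw [TensorProduct.tmul_smul, TensorProduct.smul_tmul', TensorProduct.smul_tmul']
      congr 1
      refine LinearMap.ext fun x => ?_
      rw [LinearMap.smul_apply, LinearMap.smul_apply, smul_eq_mul, smul_eq_mul]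
      have h1 := congrArg (φk k) (apply_smul_comm h ψ x y)
      rw [map_smul, map_smul, smul_eq_mul, smul_eq_mul] at h1
      rw [mul_comm, ← h1, mul_comm]
  refine ⟨⟨?_, ?_⟩⟩
  · rw [injective_iff_map_eq_zero]
    intro w hw
    rw [key w, hw, zero_smul]
  · intro r
    refine ⟨r • ∑ k : Fin n, φk k ⊗ₜ[R] xk k, ?_⟩
    rw [map_smul, map_sum]
    simp_rw [contractLeft_apply]
    rw [htr, smul_eq_mul, mul_one]

lemma finrank_dual_free {S : Type*} [CommRing S] {N : Type*} [AddCommGroup N] [Module S N]
    [Module.Free S N] [Module.Finite S N] :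
    Module.finrank S (Module.Dual S N) = Module.finrank S N := by
  rcases subsingleton_or_nontrivial S with h | h
  · haveI := Module.subsingleton S N
    haveI := Module.subsingleton S (Module.Dual S N)
    simp
  classical
  let b := Module.Free.chooseBasis S N
  rw [Module.finrank_eq_card_basis b.dualBasis, Module.finrank_eq_card_basis b]

/-- the dual of a finite projective module has the same rank at every prime -/
theorem rankAtStalk_dual (q : PrimeSpectrum R) :
    Module.rankAtStalk (Module.Dual R L) q = Module.rankAtStalk L q := by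
  haveI : Module.FinitePresentation R L := Module.finitePresentation_of_projective R L
  rw [Module.rankAtStalk_eq_finrank_tensorProduct, Module.rankAtStalk_eq_finrank_tensorProduct]
  set S := Localization.AtPrime q.asIdeal
  have h1 := Module.FinitePresentation.isBaseChange_map R L R S
  let e1 : S ⊗[R] (L →ₗ[R] R) ≃ₗ[S] (S ⊗[R] L →ₗ[S] S ⊗[R] R) := h1.equiv
  let e2 : (S ⊗[R] L →ₗ[S] S ⊗[R] R) ≃ₗ[S] (S ⊗[R] L →ₗ[S] S) :=
    LinearEquiv.congrRight (TensorProduct.AlgebraTensorModule.rid R S S)
  haveI : Module.Free S (S ⊗[R] L) := Module.free_of_flat_of_isLocalRing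
  have := (e1 ≪≫ₗ e2).finrank_eq
  rw [this]
  exact finrank_dual_free

end Groth.Agent.Helper2.RankOne
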