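import Mathlib
set_option autoImplicit false
set_option backward.isDefEq.respectTransparency.types false
set_option synthInstance.maxHeartbeats 400000
set_option maxHeartbeats 4000000
set_option linter.style.haveILetI false
set_option linter.unusedSectionVars false
set_option linter.unusedVariables false

/-!
# Étale along a section (part 1: unramifiedness, extension of derivations)

`A`-algebras `B₁`, `B₂` with augmentations `σ₁`, `σ₂`, a map `B₂ → B₁` compatible with them inducing a bijection on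
conormal modules of the augmentation ideals.
-/
namespace Groth.Agent.Helper2.BBDecEtale
open TensorProduct KaehlerDifferential
universe u

section General
variable {A B₁ B₂ : Type u} [CommRing A] [CommRing B₁] [CommRing B₂] [Algebra A B₁] [Algebra A B₂]
  [Algebra B₂ B₁] [IsScalarTower A B₂ B₁]
  (σ₁ : B₁ →ₐ[A] A) (σ₂ : B₂ →ₐ[A] A)

theorem sub_mem_ker {B : Type u} [CommRing B] [Algebra A B] (σ : B →ₐ[A] A) (b : B) :
    b - algebraMap A B (σ b) ∈ RingHom.ker σ := by
  rw [RingHom.mem_ker, map_sub, AlgHom.commutes, Algebra.algebraMap_self_apply, sub_self]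

/-- The projection of an augmented algebra onto its augmentation ideal. -/
def pr {B : Type u} [CommRing B] [Algebra A B] (σ : B →ₐ[A] A) : B →ₗ[A] ↥(RingHom.ker σ) where
  toFun b := ⟨b - algebraMap A B (σ b), sub_mem_ker σ b⟩
  map_add' x y := by
    ext
    simp only [map_add, Submodule.coe_add]
    ring
  map_smul' a x := by
    ext
    simp only [RingHom.id_apply, Submodule.coe_smul_of_tower,
      Algebra.smul_def, map_mul, AlgHom.commutes, Algebra.algebraMap_self_apply]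
    ring

@[simp] theorem pr_val {B : Type u} [CommRing B] [Algebra A B] (σ : B →ₐ[A] A) (b : B) :
    ((pr σ b : ↥(RingHom.ker σ)) : B) = b - algebraMap A B (σ b) := rfl

variable (hσ : σ₁.comp (IsScalarTower.toAlgHom A B₂ B₁) = σ₂)
  (hle : RingHom.ker σ₂ ≤ (RingHom.ker σ₁).comap (IsScalarTower.toAlgHom A B₂ B₁))

include hσ in
theorem σ₁_algebraMap (z : B₂) : σ₁ (algebraMap B₂ B₁ z) = σ₂ z := by
  have := AlgHom.congr_fun hσ z
  simpa using this

/-- `Ω[B₁/B₂] = b₁ Ω[B₁/B₂]` when the map on conormal modules is surjective. -/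
theorem kaehler_le_smul
    (hsurj : Function.Surjective (Ideal.mapCotangent (RingHom.ker σ₂) (RingHom.ker σ₁)
      (IsScalarTower.toAlgHom A B₂ B₁) hle)) :
    (⊤ : Submodule B₁ Ω[B₁⁄B₂]) ≤ (RingHom.ker σ₁) • (⊤ : Submodule B₁ Ω[B₁⁄B₂]) := by
  intro x _
  have hx : x ∈ Submodule.span B₁ (Set.range (D B₂ B₁)) := by
    rw [KaehlerDifferential.span_range_derivation]; trivial
  refine Submodule.span_le.mpr ?_ hx
  rintro _ ⟨b, rfl⟩
  have hsq : ∀ w ∈ (RingHom.ker σ₁) ^ 2,
      D B₂ B₁ w ∈ (RingHom.ker σ₁) • (⊤ : Submodule B₁ Ω[B₁⁄B₂]) := by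
    intro w hw
    rw [pow_two] at hw
    refine Submodule.mul_induction_on hw ?_ ?_
    · intro u hu v hv
      rw [Derivation.leibniz]
      exact add_mem (Submodule.smul_mem_smul hu trivial) (Submodule.smul_mem_smul hv trivial)
    · intro x y hx hy
      rw [map_add]
      exact add_mem hx hy
  have hy : b - algebraMap A B₁ (σ₁ b) ∈ RingHom.ker σ₁ := sub_mem_ker σ₁ b
  obtain ⟨c, hc⟩ := hsurj ((RingHom.ker σ₁).toCotangent ⟨_, hy⟩)
  obtain ⟨⟨z, hz⟩, rfl⟩ := Ideal.toCotangent_surjective _ c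
  rw [Ideal.mapCotangent_toCotangent, Ideal.toCotangent_eq] at hc
  have h1 := hsq _ hc
  have h2 : D B₂ B₁ (algebraMap A B₁ (σ₁ b)) = 0 := by
    rw [IsScalarTower.algebraMap_apply A B₂ B₁, Derivation.map_algebraMap]
  have h3 : D B₂ B₁ ((IsScalarTower.toAlgHom A B₂ B₁) z) = 0 := by
    rw [IsScalarTower.coe_toAlgHom', Derivation.map_algebraMap]
  simp only [map_sub, h2, h3, sub_zero, zero_sub] at h1
  have := neg_mem h1
  rwa [neg_neg] at this

/-- Unramifiedness along the section. -/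
theorem isUnramifiedAt [Algebra.FiniteType A B₁]
    (hsurj : Function.Surjective (Ideal.mapCotangent (RingHom.ker σ₂) (RingHom.ker σ₁)
      (IsScalarTower.toAlgHom A B₂ B₁) hle))
    (P : Ideal B₁) [P.IsPrime] (hP : RingHom.ker σ₁ ≤ P) : Algebra.IsUnramifiedAt B₂ P := by
  haveI : Algebra.FiniteType B₂ B₁ := Algebra.FiniteType.of_restrictScalars_finiteType A B₂ B₁
  have hfg : (⊤ : Submodule B₁ Ω[B₁⁄B₂]).FG := Module.Finite.fg_top
  obtain ⟨r, hr1, hr2⟩ := Submodule.exists_sub_one_mem_and_smul_eq_zero_of_fg_of_le_smul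
    (RingHom.ker σ₁) ⊤ hfg (kaehler_le_smul σ₁ σ₂ hle hsurj)
  have hrP : r ∉ P := fun h => by
    apply (Ideal.ne_top_iff_one P).mp (Ideal.IsPrime.ne_top inferInstance)
    have := P.sub_mem h (hP hr1)
    simpa using this
  have : (⟨P, inferInstance⟩ : PrimeSpectrum B₁) ∈ Algebra.unramifiedLocus B₂ B₁ := by
    rw [Algebra.unramifiedLocus_eq_compl_support, Set.mem_compl_iff, Module.notMem_support_iff']
    intro m
    exact ⟨r, hrP, hr2 m trivial⟩
  exact this

section ExtDer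
variable {N : Type*} [AddCommGroup N] [Module A N] [Module B₁ N] [Module B₂ N]
  [IsScalarTower A B₁ N] [IsScalarTower A B₂ N] [IsScalarTower B₂ B₁ N]

include hle in
theorem smul_eq_zero_of_mem_ker₂ (h₁ : ∀ y ∈ RingHom.ker σ₁, ∀ n : N, y • n = 0)
    (y : B₂) (hy : y ∈ RingHom.ker σ₂) (n : N) : y • n = 0 := by
  rw [← algebraMap_smul B₁ y n]
  exact h₁ _ (by simpa using hle hy) n

theorem smul_eq_σ_smul (h₁ : ∀ y ∈ RingHom.ker σ₁, ∀ n : N, y • n = 0) (x : B₁) (n : N) :
    x • n = σ₁ x • n := by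
  have := h₁ _ (sub_mem_ker σ₁ x) n
  rw [sub_smul, sub_eq_zero, algebraMap_smul] at this
  exact this

/-- The linear functional on the conormal module of `B₂` induced by a derivation to a module killed by the augmentation
ideal. -/
noncomputable def cotLift (D₂ : Derivation A B₂ N)
    (h₂ : ∀ y ∈ RingHom.ker σ₂, ∀ n : N, y • n = 0) : (RingHom.ker σ₂).Cotangent →ₗ[A] N :=
  Ideal.Cotangent.lift ((D₂ : B₂ →ₗ[A] N) ∘ₗ ((RingHom.ker σ₂).subtype.restrictScalars A)) (by
    intro x y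
    change D₂ ((x : B₂) * (y : B₂)) = 0
    rw [Derivation.leibniz, h₂ _ x.2, h₂ _ y.2, add_zero])

theorem cotLift_toCotangent (D₂ : Derivation A B₂ N)
    (h₂ : ∀ y ∈ RingHom.ker σ₂, ∀ n : N, y • n = 0) (x : ↥(RingHom.ker σ₂)) :
    cotLift σ₂ D₂ h₂ ((RingHom.ker σ₂).toCotangent x) = D₂ x := rfl

/-- The identity `pr (x y) = σ x • pr y + σ y • pr x + (pr x) • pr y` after passing to the conormal module. -/
theorem toCotangent_pr_mul (x y : B₁) :
    (RingHom.ker σ₁).toCotangent (pr σ₁ (x * y)) =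
      σ₁ x • (RingHom.ker σ₁).toCotangent (pr σ₁ y) + σ₁ y • (RingHom.ker σ₁).toCotangent (pr σ₁ x) := by
  have h : pr σ₁ (x * y) = σ₁ x • pr σ₁ y + σ₁ y • pr σ₁ x + ((pr σ₁ x : ↥(RingHom.ker σ₁)) : B₁) • pr σ₁ y := by
    ext
    simp only [pr_val, map_mul, Submodule.coe_add, Submodule.coe_smul_of_tower, Algebra.smul_def,
      Algebra.algebraMap_self_apply]
    ring
  rw [h, map_add, map_add, LinearMap.map_smul_of_tower, LinearMap.map_smul_of_tower, map_smul,
    Ideal.Cotangent.smul_eq_zero_of_mem (pr σ₁ x).2, add_zero]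

include hσ in
theorem toCotangent_pr_algebraMap (z : B₂) :
    (RingHom.ker σ₁).toCotangent (pr σ₁ (algebraMap B₂ B₁ z)) =
      Ideal.mapCotangent (RingHom.ker σ₂) (RingHom.ker σ₁) (IsScalarTower.toAlgHom A B₂ B₁) hle
        ((RingHom.ker σ₂).toCotangent (pr σ₂ z)) := by
  rw [Ideal.mapCotangent_toCotangent]
  congr 1
  ext
  simp only [pr_val, σ₁_algebraMap σ₁ σ₂ hσ, IsScalarTower.coe_toAlgHom', map_sub]
  rw [← IsScalarTower.algebraMap_apply A B₂ B₁]

variable (hcot : Function.Bijective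
      (Ideal.mapCotangent (RingHom.ker σ₂) (RingHom.ker σ₁) (IsScalarTower.toAlgHom A B₂ B₁) hle))

include hσ hcot in
/-- **Extension of derivations**: every `A`-derivation of `B₂` into a module killed by the augmentation ideal extends to
`B₁`, when the map on conormal modules is bijective. -/
theorem exists_derivation_extension (h₁ : ∀ y ∈ RingHom.ker σ₁, ∀ n : N, y • n = 0)
    (D₂ : Derivation A B₂ N) :
    ∃ D₁ : Derivation A B₁ N, ∀ z : B₂, D₁ (algebraMap B₂ B₁ z) = D₂ z := by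
  have h₂ := smul_eq_zero_of_mem_ker₂ σ₁ σ₂ hle h₁
  let e : (RingHom.ker σ₂).Cotangent ≃ₗ[A] (RingHom.ker σ₁).Cotangent :=
    LinearEquiv.ofBijective _ hcot
  let f₁ : B₁ →ₗ[A] N := cotLift σ₂ D₂ h₂ ∘ₗ e.symm.toLinearMap ∘ₗ
    ((RingHom.ker σ₁).toCotangent.restrictScalars A) ∘ₗ pr σ₁
  have hf₁ : ∀ x, f₁ x = cotLift σ₂ D₂ h₂ (e.symm ((RingHom.ker σ₁).toCotangent (pr σ₁ x))) :=
    fun x => rfl
  refine ⟨Derivation.mk' f₁ ?_, ?_⟩
  · intro x y
    rw [hf₁, hf₁, hf₁, toCotangent_pr_mul, map_add, map_add, map_smul, map_smul, map_smul, map_smul,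
      smul_eq_σ_smul σ₁ h₁ x, smul_eq_σ_smul σ₁ h₁ y]
  · intro z
    change f₁ (algebraMap B₂ B₁ z) = D₂ z
    rw [hf₁, toCotangent_pr_algebraMap σ₁ σ₂ hσ hle z]
    have : e.symm (Ideal.mapCotangent (RingHom.ker σ₂) (RingHom.ker σ₁) (IsScalarTower.toAlgHom A B₂ B₁) hle
        ((RingHom.ker σ₂).toCotangent (pr σ₂ z))) = (RingHom.ker σ₂).toCotangent (pr σ₂ z) :=
      e.symm_apply_apply _
    rw [this, cotLift_toCotangent, pr_val, map_sub, Derivation.map_algebraMap, sub_zero]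

end ExtDer

end General

end Groth.Agent.Helper2.BBDecEtale
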