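import Mathlib
import Groth.Agent.Lib.Helper2.Alg.BBDecEtale1
set_option autoImplicit false
set_option backward.isDefEq.respectTransparency.types false
set_option synthInstance.maxHeartbeats 400000
set_option maxHeartbeats 4000000
set_option linter.style.haveILetI false
set_option linter.unusedSectionVars false
set_option linter.unusedVariables false

/-!
# Étale along a section (part 2: the local computation)
-/
namespace Groth.Agent.Helper2.BBDecEtale
open TensorProduct KaehlerDifferential IsLocalRing
universe u

section Local
variable {A B₁ B₂ : Type u} [CommRing A] [CommRing B₁] [CommRing B₂] [Algebra A B₁] [Algebra A B₂]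
  [Algebra B₂ B₁] [IsScalarTower A B₂ B₁]

/-- Derivations of `B₁` into a module over a localization extend to the localization. -/
theorem exists_lift_localization (P : Ideal B₁) [P.IsPrime]
    {N : Type*} [AddCommGroup N] [Module A N] [Module B₁ N]
    [Module (Localization.AtPrime P) N] [IsScalarTower A B₁ N]
    [IsScalarTower B₁ (Localization.AtPrime P) N] (D₁ : Derivation A B₁ N) :
    ∃ g : Ω[Localization.AtPrime P⁄A] →ₗ[Localization.AtPrime P] N,
      ∀ b : B₁, g (D A (Localization.AtPrime P) (algebraMap B₁ (Localization.AtPrime P) b)) = D₁ b := by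
  haveI : Algebra.FormallyEtale B₁ (Localization.AtPrime P) :=
    Algebra.FormallyEtale.of_isLocalization P.primeCompl
  have hbc := KaehlerDifferential.isBaseChange_of_formallyEtale A B₁ (Localization.AtPrime P)
  refine ⟨hbc.lift D₁.liftKaehlerDifferential, fun b => ?_⟩
  rw [← KaehlerDifferential.map_D A A B₁ (Localization.AtPrime P), hbc.lift_eq,
    Derivation.liftKaehlerDifferential_comp_D]

variable (σ₁ : B₁ →ₐ[A] A) (σ₂ : B₂ →ₐ[A] A)
  (hσ : σ₁.comp (IsScalarTower.toAlgHom A B₂ B₁) = σ₂)
  (hle : RingHom.ker σ₂ ≤ (RingHom.ker σ₁).comap (IsScalarTower.toAlgHom A B₂ B₁))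
  (hcot : Function.Bijective
      (Ideal.mapCotangent (RingHom.ker σ₂) (RingHom.ker σ₁) (IsScalarTower.toAlgHom A B₂ B₁) hle))
  (P : Ideal B₁) [P.IsPrime] (hP : RingHom.ker σ₁ ≤ P)

include hσ hcot hP in
/-- The map `κ ⊗ (L ⊗_{B₂} Ω[B₂/A]) → κ ⊗ Ω[L/A]` is injective (it has a retraction). -/
theorem injective_lTensor_mapBaseChange :
    Function.Injective ((KaehlerDifferential.mapBaseChange A B₂ (Localization.AtPrime P)).lTensor
      (ResidueField (Localization.AtPrime P))) := by
  have h₁ : ∀ y ∈ RingHom.ker σ₁, ∀ n : ResidueField (Localization.AtPrime P) ⊗[Localization.AtPrime P]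
      ((Localization.AtPrime P) ⊗[B₂] Ω[B₂⁄A]), y • n = 0 := by
    intro y hy n
    rw [← algebraMap_smul (ResidueField (Localization.AtPrime P)) y n]
    have : algebraMap B₁ (ResidueField (Localization.AtPrime P)) y = 0 := by
      rw [IsScalarTower.algebraMap_apply B₁ (Localization.AtPrime P), ResidueField.algebraMap_eq,
        residue_eq_zero_iff, IsLocalization.AtPrime.to_map_mem_maximal_iff _ P]
      exact hP hy
    rw [this, zero_smul]
  let ψ : Ω[B₂⁄A] →ₗ[B₂] ResidueField (Localization.AtPrime P) ⊗[Localization.AtPrime P]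
      ((Localization.AtPrime P) ⊗[B₂] Ω[B₂⁄A]) :=
    ((TensorProduct.mk (Localization.AtPrime P) (ResidueField (Localization.AtPrime P))
      ((Localization.AtPrime P) ⊗[B₂] Ω[B₂⁄A]) 1).restrictScalars B₂) ∘ₗ
      (TensorProduct.mk B₂ (Localization.AtPrime P) Ω[B₂⁄A] 1)
  let D₂ : Derivation A B₂ (ResidueField (Localization.AtPrime P) ⊗[Localization.AtPrime P]
      ((Localization.AtPrime P) ⊗[B₂] Ω[B₂⁄A])) := ψ.compDer (D A B₂)
  obtain ⟨D₁, hD₁⟩ := exists_derivation_extension σ₁ σ₂ hσ hle hcot h₁ D₂
  obtain ⟨g, hg⟩ := exists_lift_localization P D₁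
  let G := g.liftBaseChange (ResidueField (Localization.AtPrime P))
  have key : ∀ ω : Ω[B₂⁄A], ∀ (c : ResidueField (Localization.AtPrime P)) (l : Localization.AtPrime P),
      G ((KaehlerDifferential.mapBaseChange A B₂ (Localization.AtPrime P)).lTensor
        (ResidueField (Localization.AtPrime P)) (c ⊗ₜ (l ⊗ₜ ω))) = c ⊗ₜ (l ⊗ₜ ω) := by
    intro ω
    have hω : ω ∈ Submodule.span B₂ (Set.range (D A B₂)) := by
      rw [KaehlerDifferential.span_range_derivation]; trivial
    induction hω using Submodule.span_induction with
    | mem ω h =>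
      obtain ⟨z, rfl⟩ := h
      intro c l
      rw [LinearMap.lTensor_tmul, KaehlerDifferential.mapBaseChange_tmul, KaehlerDifferential.map_D,
        LinearMap.liftBaseChange_tmul, map_smul, IsScalarTower.algebraMap_apply B₂ B₁ (Localization.AtPrime P),
        hg, hD₁]
      change c • l • ((1 : ResidueField (Localization.AtPrime P)) ⊗ₜ[Localization.AtPrime P]
        ((1 : Localization.AtPrime P) ⊗ₜ[B₂] (D A B₂ z))) = _
      rw [← TensorProduct.tmul_smul, TensorProduct.smul_tmul', TensorProduct.smul_tmul', smul_eq_mul,
        mul_one, smul_eq_mul, mul_one]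
    | zero =>
      intro c l
      simp only [TensorProduct.tmul_zero, map_zero]
    | add x y _ _ hx hy =>
      intro c l
      simp only [TensorProduct.tmul_add, map_add, hx c l, hy c l]
    | smul b x _ hx =>
      intro c l
      rw [← TensorProduct.smul_tmul]
      exact hx c (b • l)
  have key2 : ∀ v, G ((KaehlerDifferential.mapBaseChange A B₂ (Localization.AtPrime P)).lTensor
        (ResidueField (Localization.AtPrime P)) v) = v := by
    intro v
    induction v using TensorProduct.induction_on with
    | zero => simp only [map_zero]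
    | add x y hx hy => simp only [map_add, hx, hy]
    | tmul c m =>
      induction m using TensorProduct.induction_on with
      | zero => simp only [TensorProduct.tmul_zero, map_zero]
      | add x y hx hy => simp only [TensorProduct.tmul_add, map_add, hx, hy]
      | tmul l ω => exact key ω c l
  exact Function.LeftInverse.injective key2

end Local

end Groth.Agent.Helper2.BBDecEtale
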