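import Mathlib
import Groth.Agent.Lib.Helper2.Alg.BBDecEtale2
set_option autoImplicit false
set_option backward.isDefEq.respectTransparency.types false
set_option synthInstance.maxHeartbeats 400000
set_option maxHeartbeats 4000000
set_option linter.style.haveILetI false
set_option linter.unusedSectionVars false
set_option linter.unusedVariables false

/-!
# Étale along a section (part 3: assembly)
-/
namespace Groth.Agent.Helper2.BBDecEtale
open TensorProduct KaehlerDifferential IsLocalRing
universe u

theorem main18962 (A B₁ B₂ : Type u)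
    [CommRing A] [CommRing B₁] [CommRing B₂] [Algebra A B₁] [Algebra A B₂] [Algebra B₂ B₁]
    [IsScalarTower A B₂ B₁] [Algebra.FinitePresentation A B₁] [Algebra.FiniteType A B₂]
    (σ₁ : B₁ →ₐ[A] A) (σ₂ : B₂ →ₐ[A] A) (hσ : σ₁.comp (IsScalarTower.toAlgHom A B₂ B₁) = σ₂)
    (hle : RingHom.ker σ₂ ≤ (RingHom.ker σ₁).comap (IsScalarTower.toAlgHom A B₂ B₁))
    (hcot : Function.Bijective
      (Ideal.mapCotangent (RingHom.ker σ₂) (RingHom.ker σ₁) (IsScalarTower.toAlgHom A B₂ B₁) hle))
    (hsm : ∀ (P : Ideal B₁) [P.IsPrime], RingHom.ker σ₁ ≤ P → Algebra.IsSmoothAt A P)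
    (P : Ideal B₁) [P.IsPrime] (hP : RingHom.ker σ₁ ≤ P) : Algebra.IsEtaleAt B₂ P := by
  haveI : Algebra.FormallySmooth A (Localization.AtPrime P) := hsm P hP
  have hunr : Algebra.FormallyUnramified B₂ (Localization.AtPrime P) :=
    isUnramifiedAt σ₁ σ₂ hle hcot.2 P hP
  have hinj : Function.Injective (mapBaseChange A B₂ (Localization.AtPrime P)) := by
    haveI : Algebra.EssFiniteType B₁ (Localization.AtPrime P) :=
      Algebra.EssFiniteType.of_isLocalization _ P.primeCompl
    haveI : Algebra.EssFiniteType A (Localization.AtPrime P) :=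
      Algebra.EssFiniteType.comp A B₁ _
    haveI : Module.Free (Localization.AtPrime P) Ω[Localization.AtPrime P⁄A] :=
      Module.free_of_flat_of_isLocalRing
    obtain ⟨l', hl'⟩ := (IsLocalRing.split_injective_iff_lTensor_residueField_injective
      (mapBaseChange A B₂ (Localization.AtPrime P))).mpr
      (injective_lTensor_mapBaseChange σ₁ σ₂ hσ hle hcot P hP)
    exact Function.LeftInverse.injective (LinearMap.congr_fun hl')
  have h0 : ∀ x : Algebra.H1Cotangent B₂ (Localization.AtPrime P), x = 0 := by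
    intro x
    have h1 : Algebra.H1Cotangent.δ A B₂ (Localization.AtPrime P) x = 0 := by
      apply hinj
      rw [map_zero]
      exact (Algebra.H1Cotangent.exact_δ_mapBaseChange A B₂ (Localization.AtPrime P) _).mpr ⟨x, rfl⟩
    obtain ⟨y, rfl⟩ := (Algebra.H1Cotangent.exact_map_δ A B₂ (Localization.AtPrime P) x).mp h1
    rw [Subsingleton.elim y 0, map_zero]
  change Algebra.FormallyEtale B₂ (Localization.AtPrime P)
  rw [Algebra.formallyEtale_iff]
  exact ⟨(Algebra.formallyUnramified_iff _ _).mp hunr, ⟨fun x y => by rw [h0 x, h0 y]⟩⟩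

end Groth.Agent.Helper2.BBDecEtale
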