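import Mathlib

/-!
# Algebraic density and finite free algebras (helper2)

`DenseAt T` says that the open complement of `V(T)` in `Spec R` is scheme theoretically dense in the
strong sense (restriction from every basic open is injective).  It is inherited by basic opens of
finite free algebras.
-/

set_option autoImplicit false

namespace Groth.Agent.Helper2.DenseFree

variable {R F : Type*} [CommRing R] [CommRing F] [Algebra R F]

/-- Algebraic density of the open complement of `V(T)`. -/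
def DenseAt (T : Set R) : Prop :=
  ∀ r t : R, (∀ a ∈ T, ∃ m : ℕ, (r * a) ^ m * t = 0) → ∃ m : ℕ, r ^ m * t = 0

/-- The ideal of elements killing `a'` up to a power of `g`. -/
def satAnn (g a' : F) : Ideal F where
  carrier := {b | ∃ L : ℕ, g ^ L * b * a' = 0}
  zero_mem' := ⟨0, by simp⟩
  add_mem' := by
    rintro b₁ b₂ ⟨L₁, h₁⟩ ⟨L₂, h₂⟩
    refine ⟨L₁ + L₂, ?_⟩
    calc g ^ (L₁ + L₂) * (b₁ + b₂) * a'
        = g ^ L₂ * (g ^ L₁ * b₁ * a') + g ^ L₁ * (g ^ L₂ * b₂ * a') := by ring
      _ = 0 := by rw [h₁, h₂]; simp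
  smul_mem' := by
    rintro x b ⟨L, h⟩
    refine ⟨L, ?_⟩
    calc g ^ L * (x • b) * a' = x * (g ^ L * b * a') := by rw [smul_eq_mul]; ring
      _ = 0 := by rw [h, mul_zero]

theorem mem_satAnn {g a' b : F} : b ∈ satAnn g a' ↔ ∃ L : ℕ, g ^ L * b * a' = 0 := Iff.rfl

theorem const_mem (T : Set R) (hT : DenseAt T) [Module.Free R F] [Module.Finite R F] (g a' : F)
    (hTa : ∀ a ∈ T, algebraMap R F a ∈ (satAnn g a').radical)
    (h g' : F) (c : R) (hh : h = g * g' + algebraMap R F c)
    (hJ : h ∈ (satAnn g a').radical) : algebraMap R F c ∈ (satAnn g a').radical := by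
  obtain ⟨N, hN⟩ := Ideal.mem_radical_iff.mp hJ
  obtain ⟨L, hL⟩ := mem_satAnn.mp hN
  have h1 : h ^ N * (g ^ L * a') = 0 := by
    rw [← hL]; ring
  obtain ⟨u, hu⟩ : g ∣ (algebraMap R F c) ^ N - h ^ N := by
    refine Dvd.dvd.trans ⟨-g', ?_⟩ (sub_dvd_pow_sub_pow (algebraMap R F c) h N)
    rw [hh]; ring
  have h2 : ∀ y : F, (algebraMap R F c) ^ N * (y * (g ^ L * a')) = g * u * (y * (g ^ L * a')) := by
    intro y
    have e : (algebraMap R F c) ^ N = h ^ N + g * u := by rw [← hu]; ring
    rw [e, add_mul]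
    have : h ^ N * (y * (g ^ L * a')) = y * (h ^ N * (g ^ L * a')) := by ring
    rw [this, h1, mul_zero, zero_add]
  have h2' : ∀ M : ℕ, ((algebraMap R F c) ^ N) ^ M * (g ^ L * a') = (g * u) ^ M * (g ^ L * a') := by
    intro M
    induction M with
    | zero => simp
    | succ M ih =>
      have := h2 (((algebraMap R F c) ^ N) ^ M)
      calc ((algebraMap R F c) ^ N) ^ (M + 1) * (g ^ L * a')
          = (algebraMap R F c) ^ N * (((algebraMap R F c) ^ N) ^ M * (g ^ L * a')) := by ring
        _ = g * u * (((algebraMap R F c) ^ N) ^ M * (g ^ L * a')) := this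
        _ = g * u * ((g * u) ^ M * (g ^ L * a')) := by rw [ih]
        _ = (g * u) ^ (M + 1) * (g ^ L * a') := by ring
  have h3 : ∀ a ∈ T, ∃ m : ℕ, (c ^ N * a) ^ m • (g ^ L * a') = 0 := by
    intro a ha
    obtain ⟨m, hm⟩ := Ideal.mem_radical_iff.mp (hTa a ha)
    obtain ⟨L', hL'⟩ := mem_satAnn.mp hm
    refine ⟨L' + m, ?_⟩
    rw [Algebra.smul_def, map_pow, map_mul, map_pow, mul_pow, mul_assoc, mul_left_comm,
      h2' (L' + m)]
    calc (algebraMap R F a) ^ (L' + m) * ((g * u) ^ (L' + m) * (g ^ L * a'))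
        = u ^ (L' + m) * g ^ m * (algebraMap R F a) ^ L' * g ^ L *
          (g ^ L' * (algebraMap R F a) ^ m * a') := by ring
      _ = 0 := by rw [hL', mul_zero]
  let b := Module.Free.chooseBasis R F
  have h4 : ∀ i, ∃ m : ℕ, (c ^ N) ^ m * b.repr (g ^ L * a') i = 0 := by
    intro i
    apply hT
    intro a ha
    obtain ⟨m, hm⟩ := h3 a ha
    refine ⟨m, ?_⟩
    have := congrArg (fun v => b.repr v i) hm
    simpa using this
  choose m hm using h4
  have h5 : (c ^ N) ^ (Finset.univ.sup m) • (g ^ L * a') = 0 := by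
    apply b.repr.injective
    ext i
    rw [map_smul, Finsupp.smul_apply, map_zero, Finsupp.zero_apply, smul_eq_mul]
    have hle : m i ≤ Finset.univ.sup m := Finset.le_sup (Finset.mem_univ i)
    obtain ⟨k, hk⟩ := Nat.exists_eq_add_of_le hle
    rw [hk, pow_add, mul_comm ((c ^ N) ^ m i), mul_assoc, hm i, mul_zero]
  rw [Ideal.mem_radical_iff]
  refine ⟨N * Finset.univ.sup m, mem_satAnn.mpr ⟨L, ?_⟩⟩
  rw [Algebra.smul_def, map_pow, map_pow] at h5
  rw [pow_mul, ← h5]
  ring

theorem exists_pow_mul_eq_zero (T : Set R) (hT : DenseAt T) [Module.Free R F] [Module.Finite R F]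
    (g a' : F) (hTa : ∀ a ∈ T, ∃ m : ℕ, (g * algebraMap R F a) ^ m * a' = 0) :
    ∃ m : ℕ, g ^ m * a' = 0 := by
  have hTJ : ∀ a ∈ T, algebraMap R F a ∈ (satAnn g a').radical := by
    intro a ha
    obtain ⟨m, hm⟩ := hTa a ha
    rw [Ideal.mem_radical_iff]
    refine ⟨m, mem_satAnn.mpr ⟨m, ?_⟩⟩
    rw [← hm]; ring
  have hstar : ∀ x, g * x ∈ (satAnn g a').radical → x ∈ (satAnn g a').radical := by
    intro x hx
    obtain ⟨m, hm⟩ := Ideal.mem_radical_iff.mp hx
    obtain ⟨L, hL⟩ := mem_satAnn.mp hm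
    rw [Ideal.mem_radical_iff]
    refine ⟨m, mem_satAnn.mpr ⟨L + m, ?_⟩⟩
    rw [← hL]; ring
  have key : ∀ d : ℕ, ∀ q : Polynomial R, q.natDegree ≤ d → q.coeff d = 1 →
      Polynomial.aeval g q ∈ (satAnn g a').radical → (1 : F) ∈ (satAnn g a').radical := by
    intro d
    induction d with
    | zero =>
      intro q hq hc hmem
      have : q = 1 := by
        rw [Polynomial.eq_C_of_natDegree_le_zero hq, hc, map_one]
      rw [this, map_one] at hmem
      exact hmem
    | succ d ih =>
      intro q hq hc hmem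
      have hev : Polynomial.aeval g q =
          g * Polynomial.aeval g q.divX + algebraMap R F (q.coeff 0) := by
        have h0 := congrArg (Polynomial.aeval g) (Polynomial.X_mul_divX_add q)
        rw [map_add, map_mul, Polynomial.aeval_X, Polynomial.aeval_C] at h0
        exact h0.symm
      have hc0 := const_mem T hT g a' hTJ _ _ _ hev hmem
      have hg : g * Polynomial.aeval g q.divX ∈ (satAnn g a').radical := by
        have := (satAnn g a').radical.sub_mem hmem hc0
        rwa [hev, add_sub_cancel_right] at this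
      refine ih q.divX ?_ ?_ (hstar _ hg)
      · rw [Polynomial.natDegree_divX_eq_natDegree_tsub_one]
        omega
      · rw [Polynomial.coeff_divX]
        exact hc
  obtain ⟨q, hq, hq0⟩ := Algebra.IsIntegral.isIntegral (R := R) g
  have h1 : (1 : F) ∈ (satAnn g a').radical :=
    key _ q le_rfl hq.coeff_natDegree (by
      rw [Polynomial.aeval_def, hq0]
      exact Ideal.zero_mem _)
  obtain ⟨n, hn⟩ := Ideal.mem_radical_iff.mp h1
  obtain ⟨L, hL⟩ := mem_satAnn.mp hn
  exact ⟨L, by simpa using hL⟩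

end Groth.Agent.Helper2.DenseFree

namespace Groth.Agent.Helper2.DenseFree

variable {R F : Type*} [CommRing R] [CommRing F] [Algebra R F]

/-- Localisation at an element of a finite free algebra. -/
theorem eq_zero_of_isLocalizationAway (T : Set R) (hT : DenseAt T) [Module.Free R F]
    [Module.Finite R F] (g : F) (Fg : Type*) [CommRing Fg] [Algebra F Fg] [Algebra R Fg]
    [IsScalarTower R F Fg] [IsLocalization.Away g Fg] (s : Fg)
    (hs : ∀ a ∈ T, ∃ m : ℕ, (algebraMap R Fg a) ^ m * s = 0) : s = 0 := by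
  obtain ⟨⟨a', ⟨_, l, rfl⟩⟩, rfl⟩ := IsLocalization.mk'_surjective (Submonoid.powers g) s
  have hTa : ∀ a ∈ T, ∃ m : ℕ, (g * algebraMap R F a) ^ m * a' = 0 := by
    intro a ha
    obtain ⟨m, hm⟩ := hs a ha
    have h1 : algebraMap F Fg ((algebraMap R F a) ^ m * a') = 0 := by
      have h2 := congrArg (fun z => z * algebraMap F Fg (g ^ l)) hm
      simp only [zero_mul] at h2
      rw [mul_assoc, IsLocalization.mk'_spec] at h2
      rw [map_mul, map_pow, ← IsScalarTower.algebraMap_apply]
      exact h2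
    obtain ⟨⟨_, L, rfl⟩, hL⟩ := (IsLocalization.map_eq_zero_iff (Submonoid.powers g) Fg _).mp h1
    refine ⟨L + m, ?_⟩
    have hL' : g ^ L * ((algebraMap R F a) ^ m * a') = 0 := hL
    calc (g * algebraMap R F a) ^ (L + m) * a'
        = g ^ m * (algebraMap R F a) ^ L * (g ^ L * ((algebraMap R F a) ^ m * a')) := by ring
      _ = 0 := by rw [hL', mul_zero]
  obtain ⟨m, hm⟩ := exists_pow_mul_eq_zero T hT g a' hTa
  rw [IsLocalization.mk'_eq_zero_iff]
  exact ⟨⟨g ^ m, m, rfl⟩, hm⟩

/-- Standard etale algebras. -/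
theorem eq_zero_of_isStandardEtale {R' : Type*} [CommRing R'] [Algebra R R']
    [Algebra.IsStandardEtale R R'] (T : Set R) (hT : DenseAt T) (s : R')
    (hs : ∀ a ∈ T, ∃ m : ℕ, (algebraMap R R' a) ^ m * s = 0) : s = 0 := by
  obtain ⟨P⟩ := Algebra.IsStandardEtale.nonempty_standardEtalePresentation (R := R) (S := R')
  let e : R' ≃ₐ[R] Localization.Away (AdjoinRoot.mk P.f P.g) :=
    P.equivRing.trans P.P.equivAwayAdjoinRoot
  have := P.monic_f.free_adjoinRoot
  have := P.monic_f.finite_adjoinRoot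
  have h0 : e s = 0 := by
    apply eq_zero_of_isLocalizationAway (F := AdjoinRoot P.f) T hT (AdjoinRoot.mk P.f P.g)
      (Localization.Away (AdjoinRoot.mk P.f P.g)) (e s)
    intro a ha
    obtain ⟨m, hm⟩ := hs a ha
    refine ⟨m, ?_⟩
    have := congrArg e hm
    rw [map_mul, map_pow, AlgEquiv.commutes, map_zero] at this
    exact this
  exact e.injective (by rw [h0, map_zero])

end Groth.Agent.Helper2.DenseFree
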