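import Mathlib

/-!
# A Jacobson–Bourbaki bound (helper2)

For a field `K` and a subring `E` of the ring of additive endomorphisms of `K` containing all
left multiplications and spanned over `K` (acting on the left) by `n` elements, the field
`k` of elements `a` with `d (a * x) = a * d x` for all `d ∈ E` satisfies `[K : k] ≤ n`.
-/

set_option autoImplicit false

namespace Groth.Agent.Helper2.JB

universe u
variable {K : Type u} [Field K]

open Module

theorem isSimpleModule_of_mulLeft (E : Subring (AddMonoid.End K))
    (hE : ∀ b : K, AddMonoidHom.mulLeft b ∈ E) : IsSimpleModule E K := by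
  rw [isSimpleModule_iff_toSpanSingleton_surjective]
  refine ⟨inferInstance, fun v hv w => ?_⟩
  refine ⟨⟨AddMonoidHom.mulLeft (w / v), hE _⟩, ?_⟩
  change (w / v) * v = w
  field_simp

/-- An `E`-linear endomorphism of `K` is multiplication by its value at `1`. -/
theorem end_apply (E : Subring (AddMonoid.End K))
    (hE : ∀ b : K, AddMonoidHom.mulLeft b ∈ E) (g : Module.End E K) (x : K) :
    g x = x * g 1 := by
  have h := g.map_smul (⟨AddMonoidHom.mulLeft x, hE x⟩ : E) 1
  have h1 : ((⟨AddMonoidHom.mulLeft x, hE x⟩ : E) • (1 : K)) = x := by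
    change x * 1 = x
    rw [mul_one]
  rw [h1] at h
  rw [h]
  rfl

theorem end_one_comm (E : Subring (AddMonoid.End K))
    (hE : ∀ b : K, AddMonoidHom.mulLeft b ∈ E) (g : Module.End E K) (d : AddMonoid.End K)
    (hd : d ∈ E) (x : K) : d (g 1 * x) = g 1 * d x := by
  have h := g.map_smul (⟨d, hd⟩ : E) x
  have h1 : ((⟨d, hd⟩ : E) • x) = d x := rfl
  have h2 : ((⟨d, hd⟩ : E) • g x) = d (g x) := rfl
  rw [h1, h2, end_apply E hE g x, end_apply E hE g (d x)] at h
  rw [mul_comm (g 1) x, mul_comm (g 1) (d x)]
  exact h.symm

/-- Density: the values of elements of `E` on a family linearly independent over the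
commutant field can be prescribed. -/
theorem exists_mem_apply_eq (E : Subring (AddMonoid.End K))
    (hE : ∀ b : K, AddMonoidHom.mulLeft b ∈ E) (k : Subfield K)
    (hk : ∀ a : K, (∀ d ∈ E, ∀ x, d (a * x) = a * d x) → a ∈ k)
    (s : Finset K) (hs : LinearIndependent k (fun i : s => (i : K))) (y : s → K) :
    ∃ d ∈ E, ∀ i : s, d (i : K) = y i := by
  classical
  have : IsSimpleModule E K := isSimpleModule_of_mulLeft E hE
  -- a `k`-linear map with the prescribed values
  obtain ⟨F, hF⟩ : ∃ F : K →ₗ[k] K, ∀ i : s, F (i : K) = y i := by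
    obtain ⟨g, hg⟩ := (Finsupp.linearCombination k (fun i : s => (i : K))).exists_leftInverse_of_injective
      (LinearMap.ker_eq_bot.2 hs)
    refine ⟨(Finsupp.linearCombination k y) ∘ₗ g, fun i => ?_⟩
    have h1 : g (i : K) = Finsupp.single i 1 := by
      have := LinearMap.congr_fun hg (Finsupp.single i 1)
      simpa using this
    simp [h1]
  -- view `F` as commuting with the `E`-linear endomorphisms
  let F' : Module.End (Module.End E K) K :=
    { toFun := F
      map_add' := F.map_add
      map_smul' := by
        intro g x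
        change F (g x) = g (F x)
        rw [end_apply E hE g x, end_apply E hE g (F x)]
        have hg : g 1 ∈ k := hk _ (fun d hd x => end_one_comm E hE g d hd x)
        have := F.map_smul (⟨g 1, hg⟩ : k) x
        rw [mul_comm x, mul_comm (F x)]
        exact this }
  obtain ⟨r, hr⟩ := jacobson_density (R := E) (M := K) F' s
  refine ⟨r.1, r.2, fun i => ?_⟩
  have := hr i i.2
  rw [← hF i]
  exact this.symm

/-- The Jacobson–Bourbaki bound. -/
theorem finrank_le (E : Subring (AddMonoid.End K))
    (hE : ∀ b : K, AddMonoidHom.mulLeft b ∈ E) (n : ℕ) (D : Fin n → AddMonoid.End K)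
    (hD : ∀ d ∈ E, ∃ a : Fin n → K, ∀ x, d x = ∑ i, a i * D i x)
    (k : Subfield K) (hk : ∀ a : K, (∀ d ∈ E, ∀ x, d (a * x) = a * d x) → a ∈ k) :
    Module.rank k K ≤ n := by
  classical
  apply rank_le
  intro s hs
  -- the evaluation map is surjective
  let ev : (Fin n → K) →ₗ[K] (s → K) :=
    { toFun := fun a j => ∑ i, a i * D i (j : K)
      map_add' := by
        intro a b
        funext j
        simp [add_mul, Finset.sum_add_distrib]
      map_smul' := by
        intro c a
        funext j
        simp [Finset.mul_sum, mul_assoc] }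
  have hsurj : Function.Surjective ev := by
    intro y
    obtain ⟨d, hd, hdy⟩ := exists_mem_apply_eq E hE k hk s hs y
    obtain ⟨a, ha⟩ := hD d hd
    refine ⟨a, ?_⟩
    funext j
    change ∑ i, a i * D i (j : K) = y j
    rw [← ha, hdy]
  have := LinearMap.finrank_le_finrank_of_surjective hsurj
  simpa using this

end Groth.Agent.Helper2.JB
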