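import Mathlib
import Groth.Agent.Lib.Helper2.Alg.JacobsonBourbaki

/-!
# Finite equivalence relations on the spectrum of a field (helper2)

Let `K` be a field and `s, t : K →+* B` two ring maps with `B` finite over `K` through `s`, such
that `(s, t)` is an equivalence relation on points with values in rings.  Then, with `k` the
subfield of `K` where `s` and `t` agree, `K` is finite over `k` and `B = K ⊗[k] K`.
-/

set_option autoImplicit false
set_option linter.unusedSectionVars false

namespace Groth.Agent.Helper2.FieldEqv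

universe u
open TensorProduct

variable {K B : Type u} [Field K] [CommRing B]

/-- `B` with the `K`-algebra structure given by `t`. -/
def Bt (_t : K →+* B) : Type u := B

instance (t : K →+* B) : CommRing (Bt t) := inferInstanceAs (CommRing B)
instance (t : K →+* B) : Algebra K (Bt t) := t.toAlgebra

theorem algebraMap_Bt (t : K →+* B) (a : K) : algebraMap K (Bt t) a = t a := rfl

variable [Algebra K B] (t : K →+* B)

/-- The contraction `Bt ⊗[K] B → Bt`, `b₁ ⊗ b₂ ↦ b₁ * t (ψ b₂)`. -/
noncomputable def contract (ψ : B →ₗ[K] K) : Bt t ⊗[K] B →ₗ[Bt t] Bt t :=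
  (AlgebraTensorModule.rid K (Bt t) (Bt t)).toLinearMap ∘ₗ (ψ.baseChange (Bt t))

theorem contract_tmul (ψ : B →ₗ[K] K) (b₁ : Bt t) (b₂ : B) :
    contract t ψ (b₁ ⊗ₜ b₂) = b₁ * algebraMap K (Bt t) (ψ b₂) := by
  simp only [contract, LinearMap.coe_comp, LinearEquiv.coe_coe, Function.comp_apply,
    LinearMap.baseChange_tmul, AlgebraTensorModule.rid_tmul]
  rw [Algebra.smul_def, mul_comm]

/-- The identity `B → Bt`. -/
def toBt : B →+* Bt t := RingHom.id B

/-- The identity `Bt → B`. -/
def ofBt : Bt t →+* B := RingHom.id B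

@[simp] theorem ofBt_toBt (b : B) : ofBt t (toBt t b) = b := rfl
@[simp] theorem toBt_ofBt (b : Bt t) : toBt t (ofBt t b) = b := rfl
theorem ofBt_algebraMap (a : K) : ofBt t (algebraMap K (Bt t) a) = t a := rfl

theorem tmul_one_mul (x : Bt t) (z : Bt t ⊗[K] B) : (x ⊗ₜ[K] (1 : B)) * z = x • z := by
  rw [Algebra.smul_def, Algebra.TensorProduct.algebraMap_apply]
  rfl

/-- The functional `χ` with `χ ∘ t = (φ ∘ t) ∘ (ψ ∘ t)`. -/
noncomputable def compFun (c : B →+* Bt t ⊗[K] B)
    (hcs : ∀ a : K, c (algebraMap K B a) = toBt t (algebraMap K B a) ⊗ₜ[K] (1 : B))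
    (φ ψ : B →ₗ[K] K) : B →ₗ[K] K where
  toFun b := φ (ofBt t (contract t ψ (c b)))
  map_add' b b' := by simp only [map_add]
  map_smul' a b := by
    simp only [RingHom.id_apply]
    rw [Algebra.smul_def, map_mul, hcs, tmul_one_mul, map_smul, smul_eq_mul, map_mul, ofBt_toBt,
      ← Algebra.smul_def, map_smul]

theorem compFun_apply_t (c : B →+* Bt t ⊗[K] B)
    (hcs : ∀ a : K, c (algebraMap K B a) = toBt t (algebraMap K B a) ⊗ₜ[K] (1 : B))
    (hct : ∀ a : K, c (t a) = (1 : Bt t) ⊗ₜ[K] t a)
    (φ ψ : B →ₗ[K] K) (x : K) : compFun t c hcs φ ψ (t x) = φ (t (ψ (t x))) := by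
  change φ (ofBt t (contract t ψ (c (t x)))) = _
  rw [hct, contract_tmul, one_mul, ofBt_algebraMap]

/-- The subring of additive endomorphisms of `K` of the form `φ ∘ t`. -/
noncomputable def endSubring (c : B →+* Bt t ⊗[K] B)
    (hcs : ∀ a : K, c (algebraMap K B a) = toBt t (algebraMap K B a) ⊗ₜ[K] (1 : B))
    (hct : ∀ a : K, c (t a) = (1 : Bt t) ⊗ₜ[K] t a)
    (e : B →ₐ[K] K) (he : ∀ a, e (t a) = a) : Subring (AddMonoid.End K) where
  carrier := {D | ∃ φ : B →ₗ[K] K, ∀ x, D x = φ (t x)}
  mul_mem' := by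
    rintro D D' ⟨φ, hφ⟩ ⟨ψ, hψ⟩
    refine ⟨compFun t c hcs φ ψ, fun x => ?_⟩
    rw [compFun_apply_t t c hcs hct]
    change D (D' x) = _
    rw [hψ, hφ]
  one_mem' := ⟨e.toLinearMap, fun x => by simp [he]⟩
  add_mem' := by
    rintro D D' ⟨φ, hφ⟩ ⟨ψ, hψ⟩
    exact ⟨φ + ψ, fun x => by change D x + D' x = _; rw [hφ, hψ]; rfl⟩
  zero_mem' := ⟨0, fun x => by simp⟩
  neg_mem' := by
    rintro D ⟨φ, hφ⟩
    exact ⟨-φ, fun x => by change -(D x) = _; rw [hφ]; rfl⟩

theorem rank_le [Module.Finite K B] (c : B →+* Bt t ⊗[K] B)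
    (hcs : ∀ a : K, c (algebraMap K B a) = toBt t (algebraMap K B a) ⊗ₜ[K] (1 : B))
    (hct : ∀ a : K, c (t a) = (1 : Bt t) ⊗ₜ[K] t a)
    (e : B →ₐ[K] K) (he : ∀ a, e (t a) = a) :
    Module.rank ((algebraMap K B).eqLocusField t) K ≤ Module.finrank K B := by
  classical
  let β := Module.finBasis K B
  refine JB.finrank_le (endSubring t c hcs hct e he) ?_ (Module.finrank K B)
    (fun i => ((β.coord i).toAddMonoidHom.comp t.toAddMonoidHom : K →+ K)) ?_ _ ?_
  · intro b
    refine ⟨b • e.toLinearMap, fun x => ?_⟩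
    change b * x = b • e (t x)
    rw [he, smul_eq_mul]
  · rintro d ⟨φ, hφ⟩
    refine ⟨fun i => φ (β i), fun x => ?_⟩
    rw [hφ]
    conv_lhs => rw [← β.sum_repr (t x)]
    rw [map_sum]
    refine Finset.sum_congr rfl fun i _ => ?_
    rw [map_smul, smul_eq_mul, mul_comm]
    rfl
  · intro a ha
    change algebraMap K B a = t a
    by_contra hne
    have hv : t a - algebraMap K B a ≠ 0 := sub_ne_zero.2 (Ne.symm hne)
    apply hv
    rw [← Module.forall_dual_apply_eq_zero_iff K]
    intro φ
    have h1 := ha (φ.toAddMonoidHom.comp t.toAddMonoidHom) ⟨φ, fun x => rfl⟩ 1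
    change φ (t (a * 1)) = a * φ (t 1) at h1
    rw [mul_one, map_one] at h1
    rw [map_sub, sub_eq_zero]
    have h2 : φ (algebraMap K B a) = a * φ 1 := by
      rw [Algebra.algebraMap_eq_smul_one, map_smul, smul_eq_mul]
    rw [h2]
    exact h1

end Groth.Agent.Helper2.FieldEqv

namespace Groth.Agent.Helper2.FieldEqv

universe u
open TensorProduct CategoryTheory CategoryTheory.Limits

variable {K B : Type u} [Field K] [CommRing B]

/-- The main theorem: a finite equivalence relation `(s, t)` on `Spec K` is the kernel pair of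
`Spec K → Spec k` for the subfield `k` where `s` and `t` agree, and `K` is finite over `k`. -/
theorem main (s t : K →+* B) (hfin : s.Finite)
    (hinj : ∀ (T : Type u) [CommRing T] (f g : B →+* T), f.comp s = g.comp s →
      f.comp t = g.comp t → f = g)
    (hrefl : ∃ e : B →+* K, e.comp s = RingHom.id K ∧ e.comp t = RingHom.id K)
    (htrans : ∀ (T : Type u) [CommRing T] (f g : B →+* T), f.comp t = g.comp s →
      ∃ h : B →+* T, h.comp s = f.comp s ∧ h.comp t = g.comp t) :
    ∃ k : Subfield K, (∀ a : K, a ∈ k ↔ s a = t a) ∧ FiniteDimensional k K ∧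
      IsPushout (CommRingCat.ofHom k.subtype) (CommRingCat.ofHom k.subtype)
        (CommRingCat.ofHom s) (CommRingCat.ofHom t) := by
  classical
  let _ : Algebra K B := s.toAlgebra
  have : Module.Finite K B := hfin
  obtain ⟨e₀, he1, he2⟩ := hrefl
  let e : B →ₐ[K] K := { e₀ with commutes' := fun a => congr($he1 a) }
  have he : ∀ a, e (t a) = a := fun a => congr($he2 a)
  -- the composition map
  obtain ⟨c, hc1, hc2⟩ := htrans (Bt t ⊗[K] B)
    ((Algebra.TensorProduct.includeLeftRingHom : Bt t →+* Bt t ⊗[K] B).comp (toBt t))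
    (Algebra.TensorProduct.includeRight : B →ₐ[K] Bt t ⊗[K] B).toRingHom (by
      ext a
      change (algebraMap K (Bt t) a) ⊗ₜ[K] (1 : B) = (1 : Bt t) ⊗ₜ[K] algebraMap K B a
      exact Algebra.TensorProduct.tmul_one_eq_one_tmul a)
  have hcs : ∀ a : K, c (algebraMap K B a) = toBt t (algebraMap K B a) ⊗ₜ[K] (1 : B) :=
    fun a => congr($hc1 a)
  have hct : ∀ a : K, c (t a) = (1 : Bt t) ⊗ₜ[K] t a := fun a => congr($hc2 a)
  have hrank := rank_le t c hcs hct e he
  refine ⟨(algebraMap K B).eqLocusField t, fun a => Iff.rfl, ?_, ?_⟩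
  · exact Module.rank_lt_aleph0_iff.1 (lt_of_le_of_lt hrank (Cardinal.natCast_lt_aleph0))
  set k : Subfield K := (algebraMap K B).eqLocusField t with hk
  have hfd : FiniteDimensional k K :=
    Module.rank_lt_aleph0_iff.1 (lt_of_le_of_lt hrank Cardinal.natCast_lt_aleph0)
  have hpo := CommRingCat.isPushout_tensorProduct k K K
  have w : CommRingCat.ofHom (algebraMap k K) ≫ CommRingCat.ofHom s =
      CommRingCat.ofHom (algebraMap k K) ≫ CommRingCat.ofHom t := by
    ext a
    exact a.2
  let μ := hpo.desc (CommRingCat.ofHom s) (CommRingCat.ofHom t) w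
  have hμl : CommRingCat.ofHom (Algebra.TensorProduct.includeLeftRingHom : K →+* K ⊗[k] K) ≫ μ =
      CommRingCat.ofHom s := hpo.inl_desc _ _ _
  have hμr : CommRingCat.ofHom
      (Algebra.TensorProduct.includeRight : K →ₐ[k] K ⊗[k] K).toRingHom ≫ μ =
      CommRingCat.ofHom t := hpo.inr_desc _ _ _
  have hμ1 : ∀ a : K, μ.hom (a ⊗ₜ[k] (1 : K)) = s a := fun a => congr($hμl a)
  have hμ2 : ∀ a : K, μ.hom ((1 : K) ⊗ₜ[k] a) = t a := fun a => congr($hμr a)
  -- surjectivity
  have hsurj : Function.Surjective μ.hom := by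
    have : Epi μ := by
      refine ⟨fun {T} f g hfg => ?_⟩
      ext1
      apply hinj T f.hom g.hom
      · ext a
        have := congr($hfg (a ⊗ₜ[k] (1 : K)))
        simpa [hμ1] using this
      · ext a
        have := congr($hfg ((1 : K) ⊗ₜ[k] a))
        simpa [hμ2] using this
    apply RingHom.surjective_of_epi_of_finite μ
    apply RingHom.Finite.of_comp_finite (f := (Algebra.TensorProduct.includeLeftRingHom : K →+* K ⊗[k] K))
    have : μ.hom.comp (Algebra.TensorProduct.includeLeftRingHom : K →+* K ⊗[k] K) = s := by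
      ext a
      exact hμ1 a
    rw [this]
    exact hfin
  -- injectivity by a dimension count
  let L : K ⊗[k] K →ₗ[K] B :=
    { toFun := μ.hom
      map_add' := map_add _
      map_smul' := by
        intro a z
        simp only [RingHom.id_apply]
        have h1 : a • z = (a ⊗ₜ[k] (1 : K)) * z := by
          induction z using TensorProduct.induction_on with
          | zero => simp
          | tmul x y =>
            rw [TensorProduct.smul_tmul', Algebra.TensorProduct.tmul_mul_tmul, one_mul, smul_eq_mul]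
          | add x y hx hy => rw [smul_add, mul_add, hx, hy]
        rw [h1, map_mul, hμ1, Algebra.smul_def]
        rfl }
  have hLsurj : Function.Surjective L := hsurj
  have hdim : Module.finrank K (K ⊗[k] K) = Module.finrank K B := by
    apply le_antisymm
    · rw [Module.finrank_baseChange]
      exact Module.finrank_le_of_rank_le hrank
    · exact LinearMap.finrank_le_finrank_of_surjective hLsurj
  have hinj' : Function.Injective L :=
    (LinearMap.injective_iff_surjective_of_finrank_eq_finrank hdim).2 hLsurj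
  have hbij : Function.Bijective μ.hom := ⟨hinj', hsurj⟩
  have : IsIso μ := (ConcreteCategory.isIso_iff_bijective μ).2 hbij
  exact IsPushout.of_iso hpo (Iso.refl _) (Iso.refl _) (Iso.refl _) (asIso μ)
    (by simp only [Iso.refl_hom, Category.comp_id, Category.id_comp]; rfl)
    (by simp only [Iso.refl_hom, Category.comp_id, Category.id_comp]; rfl)
    (by simp only [Iso.refl_hom, Category.id_comp]; exact hμl)
    (by simp only [Iso.refl_hom, Category.id_comp]; exact hμr)

end Groth.Agent.Helper2.FieldEqv
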