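import Mathlib
namespace Groth.Agent.Helper2.AlgLib
open Polynomial

/-- A field finitely generated over a subdomain: after inverting one nonzero element the domain
becomes a field. -/
theorem exists_away_isField {R L : Type*} [CommRing R] [IsDomain R] [Field L] [Algebra R L]
    [Algebra.FiniteType R L] (hinj : Function.Injective (algebraMap R L)) :
    ∃ y : R, y ≠ 0 ∧ IsField (Localization.Away y) := by
  let F := FractionRing R
  letI : Algebra F L := (IsFractionRing.lift hinj).toAlgebra
  haveI : IsScalarTower R F L :=
    IsScalarTower.of_algebraMap_eq (fun x => (IsFractionRing.lift_algebraMap hinj x).symm)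
  haveI : Algebra.FiniteType F L := Algebra.FiniteType.of_restrictScalars_finiteType R F L
  haveI : Module.Finite F L := finite_of_finite_type_of_isJacobsonRing F L
  haveI : Algebra.IsAlgebraic F L := Algebra.IsAlgebraic.of_finite F L
  haveI halg : Algebra.IsAlgebraic R L :=
    (IsFractionRing.comap_isAlgebraic_iff (A := R) (K := F) (C := L)).mpr inferInstance
  obtain ⟨s, hs⟩ := (Algebra.FiniteType.out : (⊤ : Subalgebra R L).FG)
  obtain ⟨y, hy0, hy⟩ := Algebra.IsAlgebraic.exists_integral_multiples R s
  refine ⟨y, hy0, ?_⟩
  have hyu : IsUnit (algebraMap R L y) :=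
    isUnit_iff_ne_zero.2 ((map_ne_zero_iff _ hinj).2 hy0)
  letI : Algebra (Localization.Away y) L := (IsLocalization.Away.lift y hyu).toAlgebra
  haveI : IsScalarTower R (Localization.Away y) L :=
    IsScalarTower.of_algebraMap_eq (fun x => (IsLocalization.Away.lift_eq y hyu x).symm)
  -- integrality
  have hint : ∀ z ∈ s, IsIntegral (Localization.Away y) z := by
    intro z hz
    have h1 : IsIntegral (Localization.Away y) (y • z) := (hy z hz).tower_top
    have h2 : IsIntegral (Localization.Away y)
        (algebraMap (Localization.Away y) L (IsLocalization.Away.invSelf y)) := isIntegral_algebraMap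
    have h3 : z = algebraMap (Localization.Away y) L (IsLocalization.Away.invSelf y) * (y • z) := by
      rw [Algebra.smul_def, ← mul_assoc, IsScalarTower.algebraMap_apply R (Localization.Away y) L,
        ← map_mul, mul_comm (IsLocalization.Away.invSelf y), IsLocalization.Away.mul_invSelf, map_one,
        one_mul]
    rw [h3]
    exact h2.mul h1
  haveI : Algebra.IsIntegral (Localization.Away y) L := by
    refine ⟨fun x => ?_⟩
    have hx : x ∈ Algebra.adjoin R (s : Set L) := by rw [hs]; exact Algebra.mem_top
    have hle : Algebra.adjoin R (s : Set L) ≤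
        (integralClosure (Localization.Away y) L).restrictScalars R :=
      Algebra.adjoin_le (fun z hz => hint z hz)
    exact hle hx
  have hinj' : Function.Injective (algebraMap (Localization.Away y) L) := by
    change Function.Injective (IsLocalization.Away.lift y hyu)
    unfold IsLocalization.Away.lift
    rw [IsLocalization.lift_injective_iff]
    intro a b
    rw [(IsLocalization.injective (Localization.Away y)
      (powers_le_nonZeroDivisors_of_noZeroDivisors hy0)).eq_iff, hinj.eq_iff]
  exact isField_of_isIntegral_of_isField hinj' (Field.toIsField L)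

/-- Zariski's lemma, local form: for a field `L` of finite type over a ring `A` the kernel of
`A → L` is maximal among primes avoiding a suitable element. -/
theorem exists_le_ker_of_finiteType_field {A L : Type*} [CommRing A] [Field L] [Algebra A L]
    [Algebra.FiniteType A L] :
    ∃ g : A, algebraMap A L g ≠ 0 ∧ ∀ q : Ideal A, q.IsPrime →
      RingHom.ker (algebraMap A L) ≤ q → g ∉ q → q ≤ RingHom.ker (algebraMap A L) := by
  let p := RingHom.ker (algebraMap A L)
  haveI : p.IsPrime := RingHom.ker_isPrime _
  let R := A ⧸ p
  letI : Algebra R L := (RingHom.kerLift (algebraMap A L)).toAlgebra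
  haveI : IsScalarTower A R L := IsScalarTower.of_algebraMap_eq (fun x => rfl)
  haveI : Algebra.FiniteType R L := Algebra.FiniteType.of_restrictScalars_finiteType A R L
  have hinj : Function.Injective (algebraMap R L) := RingHom.kerLift_injective _
  obtain ⟨y, hy0, hyF⟩ := exists_away_isField (R := R) (L := L) hinj
  obtain ⟨g, rfl⟩ := Ideal.Quotient.mk_surjective y
  refine ⟨g, ?_, ?_⟩
  · change algebraMap R L (Ideal.Quotient.mk p g) ≠ 0
    exact (map_ne_zero_iff _ hinj).2 hy0
  · intro q hq hpq hgq a ha
    -- the image prime
    have hq' : (q.map (Ideal.Quotient.mk p)).IsPrime :=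
      Ideal.map_isPrime_of_surjective Ideal.Quotient.mk_surjective (by rwa [Ideal.mk_ker])
    have hyq : Ideal.Quotient.mk p g ∉ q.map (Ideal.Quotient.mk p) := by
      rw [Ideal.mem_quotient_iff_mem hpq]
      exact hgq
    have hdisj : Disjoint (Submonoid.powers (Ideal.Quotient.mk p g) : Set R)
        (q.map (Ideal.Quotient.mk p) : Set R) := by
      rw [Set.disjoint_left]
      rintro _ ⟨n, rfl⟩ hn
      exact hyq (hq'.mem_of_pow_mem n hn)
    have hcm : Ideal.comap (algebraMap R (Localization.Away (Ideal.Quotient.mk p g)))
        ((q.map (Ideal.Quotient.mk p)).map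
          (algebraMap R (Localization.Away (Ideal.Quotient.mk p g)))) = q.map (Ideal.Quotient.mk p) :=
      IsLocalization.under_map_of_isPrime_disjoint
        (Submonoid.powers (Ideal.Quotient.mk p g)) (Localization.Away (Ideal.Quotient.mk p g))
        hq' hdisj
    letI := hyF.toField
    rcases Ideal.eq_bot_or_top ((q.map (Ideal.Quotient.mk p)).map
      (algebraMap R (Localization.Away (Ideal.Quotient.mk p g)))) with h | h
    · rw [h] at hcm
      have hinjR : Function.Injective (algebraMap R (Localization.Away (Ideal.Quotient.mk p g))) :=
        IsLocalization.injective _ (powers_le_nonZeroDivisors_of_noZeroDivisors hy0)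
      have hbot : q.map (Ideal.Quotient.mk p) = ⊥ := by
        rw [← hcm]
        exact (RingHom.injective_iff_ker_eq_bot _).1 hinjR
      have : Ideal.Quotient.mk p a ∈ q.map (Ideal.Quotient.mk p) := Ideal.mem_map_of_mem _ ha
      rw [hbot, Ideal.mem_bot, Ideal.Quotient.eq_zero_iff_mem] at this
      exact this
    · rw [h, Ideal.comap_top] at hcm
      exact absurd hcm.symm hq'.ne_top

end Groth.Agent.Helper2.AlgLib
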