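import Mathlib

/-!
# Finite flat modules of constant rank over semilocal rings are free (helper2)
-/

set_option autoImplicit false
universe u v
open Module Function

namespace Groth.Agent.Helper2.SemilocalFree

variable {K : Type u} [CommRing K] {M : Type v} [AddCommGroup M] [Module K M]

attribute [local instance] Module.free_of_flat_of_isLocalRing

/-- at a maximal ideal, a finite flat module of rank `n` is generated by `n` elements modulo
the ideal -/
lemma exists_gens_at_maximal [Module.Finite K M] [Module.Flat K M] (𝔪 : Ideal K) [𝔪.IsMaximal]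
    (n : ℕ) (hn : Module.rankAtStalk M ⟨𝔪, inferInstance⟩ = n) :
    ∃ x : Fin n → M, Submodule.span K (Set.range x) ⊔ 𝔪 • (⊤ : Submodule K M) = ⊤ := by
  set S := 𝔪.primeCompl with hS
  set f := LocalizedModule.mkLinearMap S M with hf
  have hfr : Module.finrank (Localization.AtPrime 𝔪) (LocalizedModule S M) = n := hn
  let b : Module.Basis (Fin n) (Localization.AtPrime 𝔪) (LocalizedModule S M) :=
    Module.finBasisOfFinrankEq _ _ hfr
  have hsurj := IsLocalizedModule.mk'_surjective S f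
  choose ms hms using fun j => hsurj (b j)
  let x : Fin n → M := fun j => (ms j).1
  refine ⟨x, ?_⟩
  have hspan : Submodule.span (Localization.AtPrime 𝔪) (f '' Set.range x) = ⊤ := by
    rw [eq_top_iff, ← b.span_eq, Submodule.span_le]
    rintro _ ⟨j, rfl⟩
    have h1 : b j = IsLocalization.mk' (Localization.AtPrime 𝔪) (1 : K) (ms j).2 • f (x j) := by
      have h2 := IsLocalizedModule.mk'_smul_mk' (Localization.AtPrime 𝔪) f (1 : K) (x j)
        (ms j).2 (1 : S)
      rw [IsLocalizedModule.mk'_one, one_smul, mul_one] at h2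
      rw [h2]
      exact (hms j).symm
    rw [h1]
    exact Submodule.smul_mem _ _ (Submodule.subset_span ⟨x j, ⟨j, rfl⟩, rfl⟩)
  have hloc : (Submodule.span K (Set.range x)).localized' (Localization.AtPrime 𝔪) S f = ⊤ := by
    rw [Submodule.localized'_span, hspan]
  rw [eq_top_iff]
  intro z _
  have hz : f z ∈ (Submodule.span K (Set.range x)).localized' (Localization.AtPrime 𝔪) S f := by
    rw [hloc]; trivial
  rw [Submodule.mem_localized'] at hz
  obtain ⟨y, hy, u, hu⟩ := hz
  rw [IsLocalizedModule.mk'_eq_iff] at hu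
  have hu' : f y = f ((u : K) • z) := by
    rw [hu, f.map_smul]
    rfl
  rw [IsLocalizedModule.eq_iff_exists S f] at hu'
  obtain ⟨w, hw⟩ := hu'
  have hd : ((w * u : S) : K) ∉ 𝔪 := (w * u).2
  obtain ⟨v, i, hi, hvi⟩ := Ideal.IsMaximal.exists_inv (inferInstance : 𝔪.IsMaximal) hd
  have h3 : z = (v * ((w * u : S) : K)) • z + i • z := by
    rw [← add_smul, hvi, one_smul]
  rw [h3]
  refine Submodule.add_mem _ (Submodule.mem_sup_left ?_) (Submodule.mem_sup_right ?_)
  · rw [mul_smul]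
    refine Submodule.smul_mem _ _ ?_
    have h4 : ((w * u : S) : K) • z = w • y := by
      rw [hw]
      simp [Submonoid.smul_def, mul_smul]
    rw [h4]
    exact Submodule.smul_mem _ _ hy
  · exact Submodule.smul_mem_smul hi trivial

/-- generators modulo every maximal ideal can be combined over a semilocal ring -/
theorem exists_span_eq_top [Finite (MaximalSpectrum K)] [Module.Finite K M] (n : ℕ)
    (h : ∀ 𝔪 : MaximalSpectrum K, ∃ x : Fin n → M,
      Submodule.span K (Set.range x) ⊔ 𝔪.asIdeal • (⊤ : Submodule K M) = ⊤) :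
    ∃ y : Fin n → M, Submodule.span K (Set.range y) = ⊤ := by
  classical
  haveI : Fintype (MaximalSpectrum K) := Fintype.ofFinite _
  choose x hx using h
  have hcop : Pairwise (IsCoprime on fun 𝔪 : MaximalSpectrum K => 𝔪.asIdeal) := by
    intro 𝔪 𝔪' hne
    haveI := 𝔪.isMaximal
    haveI := 𝔪'.isMaximal
    exact Ideal.isCoprime_of_isMaximal (fun h => hne (MaximalSpectrum.ext h))
  have hc : ∀ 𝔪 : MaximalSpectrum K, ∃ c : K, ∀ 𝔪' : MaximalSpectrum K,
      c - (if 𝔪' = 𝔪 then 1 else 0) ∈ 𝔪'.asIdeal := fun 𝔪 =>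
    Ideal.exists_forall_sub_mem_ideal hcop (fun 𝔪' => if 𝔪' = 𝔪 then 1 else 0)
  choose c hc using hc
  let y : Fin n → M := fun j => ∑ 𝔪, c 𝔪 • x 𝔪 j
  refine ⟨y, ?_⟩
  set N := Submodule.span K (Set.range y) with hN
  have hy : ∀ (𝔪₀ : MaximalSpectrum K) (j : Fin n),
      y j - x 𝔪₀ j ∈ 𝔪₀.asIdeal • (⊤ : Submodule K M) := by
    intro 𝔪₀ j
    have e1 : y j - x 𝔪₀ j = ∑ 𝔪, (c 𝔪 - (if 𝔪₀ = 𝔪 then 1 else 0)) • x 𝔪 j := by
      simp only [y, sub_smul, Finset.sum_sub_distrib, ite_smul, one_smul, zero_smul,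
        Finset.sum_ite_eq, Finset.mem_univ, if_true]
    rw [e1]
    refine Submodule.sum_mem _ (fun 𝔪 _ => ?_)
    exact Submodule.smul_mem_smul (hc 𝔪 𝔪₀) trivial
  have hsup : ∀ 𝔪₀ : MaximalSpectrum K, N ⊔ 𝔪₀.asIdeal • (⊤ : Submodule K M) = ⊤ := by
    intro 𝔪₀
    refine eq_top_iff.2 (le_trans (le_of_eq (hx 𝔪₀).symm) ?_)
    refine sup_le ?_ le_sup_right
    rw [Submodule.span_le]
    rintro _ ⟨j, rfl⟩
    have e2 : x 𝔪₀ j = y j - (y j - x 𝔪₀ j) := by abel
    rw [e2]
    exact Submodule.sub_mem _ (Submodule.mem_sup_left (Submodule.subset_span ⟨j, rfl⟩))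
      (Submodule.mem_sup_right (hy 𝔪₀ j))
  have hprod : ∀ T : Finset (MaximalSpectrum K),
      N ⊔ (∏ 𝔪 ∈ T, 𝔪.asIdeal) • (⊤ : Submodule K M) = ⊤ := by
    intro T
    induction T using Finset.induction_on with
    | empty => simp
    | insert 𝔪 T hnot ih =>
      rw [Finset.prod_insert hnot, Submodule.mul_smul, eq_top_iff]
      calc (⊤ : Submodule K M) = N ⊔ 𝔪.asIdeal • (⊤ : Submodule K M) := (hsup 𝔪).symm
        _ = N ⊔ 𝔪.asIdeal • (N ⊔ (∏ 𝔪 ∈ T, 𝔪.asIdeal) • (⊤ : Submodule K M)) := by rw [ih]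
        _ ≤ N ⊔ 𝔪.asIdeal • (∏ 𝔪 ∈ T, 𝔪.asIdeal) • (⊤ : Submodule K M) := by
          rw [Submodule.smul_sup]
          refine sup_le le_sup_left (sup_le ?_ le_sup_right)
          exact le_trans Submodule.smul_le_right le_sup_left
  have hjac : (∏ 𝔪 ∈ (Finset.univ : Finset (MaximalSpectrum K)), 𝔪.asIdeal) ≤
      Ideal.jacobson (⊥ : Ideal K) := by
    refine le_trans Ideal.prod_le_inf ?_
    unfold Ideal.jacobson
    refine le_sInf ?_
    rintro J ⟨-, hJ⟩
    exact Finset.inf_le (f := fun 𝔪 : MaximalSpectrum K => 𝔪.asIdeal)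
      (Finset.mem_univ (⟨J, hJ⟩ : MaximalSpectrum K))
  rw [eq_top_iff]
  refine Submodule.le_of_le_smul_of_le_jacobson_bot (Module.finite_def.1 inferInstance) hjac ?_
  rw [hprod Finset.univ]

/-- over a semilocal ring, a finite flat module of constant rank `n` is free of rank `n` -/
theorem free_of_rankAtStalk_eq [Nontrivial K] [Finite (MaximalSpectrum K)] [Module.Finite K M]
    [Module.Flat K M] (n : ℕ)
    (hn : ∀ (𝔪 : Ideal K) [𝔪.IsMaximal], Module.rankAtStalk M ⟨𝔪, inferInstance⟩ = n) :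
    Module.Free K M ∧ Module.finrank K M = n := by
  obtain ⟨y, hy⟩ := exists_span_eq_top (K := K) (M := M) n (fun 𝔪 => by
    haveI := 𝔪.isMaximal
    exact exists_gens_at_maximal 𝔪.asIdeal n (hn 𝔪.asIdeal))
  let φ : (Fin n → K) →ₗ[K] M := Fintype.linearCombination K y
  have hφ : Function.Surjective φ := by
    rw [← LinearMap.range_eq_top, Fintype.range_linearCombination, hy]
  have hbij : Function.Bijective φ := by
    refine Module.bijective_of_surjective_of_rankAtStalk_eq hφ (fun 𝔪 _ => ?_)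
    rw [hn 𝔪, Module.rankAtStalk_eq_finrank_of_free]
    simp
  let e : (Fin n → K) ≃ₗ[K] M := LinearEquiv.ofBijective φ hbij
  refine ⟨Module.Free.of_equiv e, ?_⟩
  rw [← e.finrank_eq]
  simp

end Groth.Agent.Helper2.SemilocalFree
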