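import Mathlib
import Groth.Agent.Lib.Helper2.Alg.SemilocalFree

set_option autoImplicit false

open scoped TensorProduct

namespace Groth.Agent.Helper2.RankTower

universe u v w

section descent

variable (R : Type u) (K : Type v) (A : Type w) [CommRing R] [CommRing K] [CommRing A]
  [Algebra R K] [Algebra K A] [Algebra R A] [IsScalarTower R K A]

open TensorProduct.AlgebraTensorModule in
/-- flatness descends along a faithfully flat extension of the target -/
theorem flat_of_faithfullyFlat [Module.Flat R A] [Module.FaithfullyFlat K A] :
    Module.Flat R K := by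
  refine Module.Flat.iff_lTensor_preserves_injective_linearMap'.mpr
    (fun (N N' : Type u) _ _ _ _ f hf => ?_)
  have h1 : Function.Injective (LinearMap.lTensor A f) :=
    Module.Flat.lTensor_preserves_injective_linearMap f hf
  have h2 : Function.Injective (lTensor K A f) := h1
  have h3 := lTensor_comp_cancelBaseChange (R := R) (A := K) (B := K) (M := A) f
  have h4 : Function.Injective (lTensor K A (lTensor K K f)) := by
    have : Function.Injective
        ((cancelBaseChange R K K A N').toLinearMap ∘ₗ lTensor K A (lTensor K K f)) := by
      rw [← h3]
      exact h2.comp (cancelBaseChange R K K A N).injective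
    rw [LinearMap.coe_comp] at this
    exact Function.Injective.of_comp this
  have h5 : Function.Injective (LinearMap.lTensor A (lTensor K K f)) := h4
  exact (Module.FaithfullyFlat.lTensor_injective_iff_injective K A _).mp h5

end descent

section field

/-- over a finite algebra over a field, a finite flat module of constant rank `h` has
dimension `h` times the dimension of the algebra -/
theorem finrank_of_rankAtStalk_const (F : Type u) [Field F] (S : Type v) [CommRing S]
    [Algebra F S] [Module.Finite F S] (M : Type w) [AddCommGroup M] [Module S M] [Module F M]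
    [IsScalarTower F S M] [Module.Finite S M] [Module.Flat S M] (h : ℕ)
    (hh : ∀ p : PrimeSpectrum S, Module.rankAtStalk M p = h) :
    Module.finrank F M = h * Module.finrank F S := by
  rcases subsingleton_or_nontrivial S with hS | hS
  · haveI : Subsingleton M := Module.subsingleton S M
    rw [Module.finrank_zero_of_subsingleton, Module.finrank_zero_of_subsingleton, mul_zero]
  · haveI : IsArtinianRing S := IsArtinianRing.of_finite F S
    obtain ⟨hfree, hrank⟩ := Groth.Agent.Helper2.SemilocalFree.free_of_rankAtStalk_eq
      (K := S) (M := M) h (fun 𝔪 _ => hh _)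
    rw [← Module.finrank_mul_finrank F S M, hrank, mul_comm]

end field

section tower

attribute [local instance] Algebra.TensorProduct.rightAlgebra

variable (R : Type u) (K : Type v) (A : Type w) [CommRing R] [CommRing K] [CommRing A]
  [Algebra R K] [Algebra K A] [Algebra R A] [IsScalarTower R K A]

/-- multiplicativity of ranks in a tower `R → K → A` with `A` of constant rank over the primes
of `K` above a given prime of `R` -/
theorem rankAtStalk_tower [Module.Finite R K] [Module.Flat R K] [Module.Finite K A]
    [Module.Flat K A] (q : PrimeSpectrum R) (h : ℕ)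
    (hh : ∀ 𝔭 : PrimeSpectrum K, 𝔭.comap (algebraMap R K) = q →
      Module.rankAtStalk (R := K) A 𝔭 = h) :
    Module.rankAtStalk (R := R) A q = h * Module.rankAtStalk (R := R) K q := by
  haveI : Module.Finite R A := Module.Finite.trans K A
  haveI : Module.Flat R A := Module.Flat.trans R K A
  rw [Module.rankAtStalk_eq, Module.rankAtStalk_eq]
  let F := q.asIdeal.ResidueField
  let Kb := q.asIdeal.Fiber K
  let e : Kb ⊗[K] A ≃ₗ[F] F ⊗[R] A := Algebra.IsPushout.cancelBaseChange R F K Kb A
  show Module.finrank F (F ⊗[R] A) = h * Module.finrank F Kb
  rw [← e.finrank_eq]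
  refine finrank_of_rankAtStalk_const F Kb (Kb ⊗[K] A) h ?_
  intro 𝔭
  rw [Module.rankAtStalk_baseChange]
  apply hh
  apply PrimeSpectrum.ext
  have h1 : q.asIdeal = 𝔭.asIdeal.under R := Ideal.LiesOver.over
  refine Eq.trans ?_ h1.symm
  show Ideal.comap (algebraMap R K) (Ideal.comap (algebraMap K Kb) 𝔭.asIdeal) = _
  rw [Ideal.comap_comap, Ideal.under]
  congr 1
  exact (IsScalarTower.algebraMap_eq R K Kb).symm

end tower

end Groth.Agent.Helper2.RankTower
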