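import Mathlib
import Groth.Agent.Lib.Helper8.GeomAlgClosed

/-!
# Closure of off-diagonal residue field tensors meets the diagonal (helper2)

Linear algebra behind `S10422`.
-/

set_option autoImplicit false
open scoped TensorProduct

namespace Groth.Agent.Helper2.TensorDiag
universe u

section LinAlg
variable {F : Type*} [Field F] {ι : Type*} [Fintype ι]

/-- A sequence of subspaces `P n`, `D m` of a finite dimensional space with `P n ≤ D m` for all
`n ≠ m` has `P m ≤ D m` for some `m`. -/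
theorem exists_le_of_forall_ne_le (P D : ℕ → Submodule F (ι → F))
    (h : ∀ n m, n ≠ m → P n ≤ D m) : ∃ m, P m ≤ D m := by
  let Q : ℕ →o (Submodule F (ι → F))ᵒᵈ :=
    ⟨fun N => OrderDual.toDual (⨆ n : {n // N ≤ n}, P n), by
      intro N N' hNN'
      show (⨆ n : {n // N' ≤ n}, P n) ≤ ⨆ n : {n // N ≤ n}, P n
      refine iSup_le fun n => ?_
      exact le_iSup (fun n : {n // N ≤ n} => P n) ⟨n.1, hNN'.trans n.2⟩⟩
  obtain ⟨m, hm⟩ := IsArtinian.monotone_stabilizes Q
  refine ⟨m, ?_⟩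
  have h1 : P m ≤ ⨆ n : {n // m ≤ n}, P n :=
    le_iSup (fun n : {n // m ≤ n} => P n) ⟨m, le_rfl⟩
  have h2 : (⨆ n : {n // m ≤ n}, P n) = ⨆ n : {n // m + 1 ≤ n}, P n :=
    congrArg OrderDual.ofDual (hm (m + 1) (Nat.le_succ m))
  have h3 : (⨆ n : {n // m + 1 ≤ n}, P n) ≤ D m :=
    iSup_le fun n => h n.1 m (by have := n.2; omega)
  rw [h2] at h1
  exact h1.trans h3

/-- If all functionals kill the relation `∑ λ(x i) • y i`, then `∑ x i * y i = 0`. -/
theorem sum_mul_eq_zero_of_forall_functional {Ω : Type*} [Field Ω] [Algebra F Ω] (x y : ι → Ω)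
    (h : ∀ l : Ω →ₗ[F] F, ∑ i, l (x i) • y i = 0) : ∑ i, x i * y i = 0 := by
  classical
  let B := Module.Basis.ofVectorSpace F Ω
  let s : Finset _ := Finset.univ.biUnion (fun i => (B.repr (x i)).support)
  have hx : ∀ i, x i = ∑ j ∈ s, B.repr (x i) j • B j := by
    intro i
    conv_lhs => rw [← B.linearCombination_repr (x i), Finsupp.linearCombination_apply]
    refine Finsupp.sum_of_support_subset _ ?_ _ (fun j _ => zero_smul _ _)
    exact Finset.subset_biUnion_of_mem (fun i => (B.repr (x i)).support) (Finset.mem_univ i)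
  calc ∑ i, x i * y i = ∑ i, (∑ j ∈ s, B.repr (x i) j • B j) * y i := by
        refine Finset.sum_congr rfl fun i _ => ?_
        rw [← hx i]
    _ = ∑ i, ∑ j ∈ s, B j * (B.repr (x i) j • y i) := by
        refine Finset.sum_congr rfl fun i _ => ?_
        rw [Finset.sum_mul]
        refine Finset.sum_congr rfl fun j _ => ?_
        rw [smul_mul_assoc, mul_smul_comm]
    _ = ∑ j ∈ s, B j * ∑ i, B.repr (x i) j • y i := by
        rw [Finset.sum_comm]
        refine Finset.sum_congr rfl fun j _ => ?_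
        rw [Finset.mul_sum]
    _ = 0 := by
        refine Finset.sum_eq_zero fun j _ => ?_
        have := h (B.coord j)
        simp only [Module.Basis.coord_apply] at this
        rw [this, mul_zero]

end LinAlg

/-- Over an algebraically closed field `F`: a sequence of pairs of finite families in field
extensions `Ω n` whose off-diagonal tensors are nilpotent has some diagonal product sum zero. -/
theorem exists_sum_mul_eq_zero {F : Type u} [Field F] [IsAlgClosed F] {ι : Type*} [Fintype ι]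
    (Ω : ℕ → Type u) [∀ n, Field (Ω n)] [∀ n, Algebra F (Ω n)] (x y : ∀ n, ι → Ω n)
    (h : ∀ n m, n ≠ m → IsNilpotent (∑ i, x n i ⊗ₜ[F] y m i : Ω n ⊗[F] Ω m)) :
    ∃ m, ∑ i, x m i * y m i = 0 := by
  have h0 : ∀ n m, n ≠ m → (∑ i, x n i ⊗ₜ[F] y m i : Ω n ⊗[F] Ω m) = 0 := by
    intro n m hnm
    haveI : IsReduced (Ω n ⊗[F] Ω m) :=
      Groth.Agent.Helper8.isReduced_tensor_of_isAlgClosed (k := F) (Ω n) (Ω m)
    exact (h n m hnm).eq_zero
  let L : ∀ n, (Ω n →ₗ[F] F) →ₗ[F] (ι → F) := fun n =>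
    LinearMap.pi (fun i => (LinearMap.applyₗ (x n i) : (Ω n →ₗ[F] F) →ₗ[F] F))
  let P : ℕ → Submodule F (ι → F) := fun n => LinearMap.range (L n)
  let D : ℕ → Submodule F (ι → F) := fun m => LinearMap.ker (Fintype.linearCombination F (y m))
  have hPD : ∀ n m, n ≠ m → P n ≤ D m := by
    rintro n m hnm _ ⟨l, rfl⟩
    show Fintype.linearCombination F (y m) (L n l) = 0
    rw [Fintype.linearCombination_apply]
    have h1 := congrArg ((TensorProduct.lid F (Ω m)).toLinearMap ∘ₗ (LinearMap.rTensor (Ω m) l)) (h0 n m hnm)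
    simp only [map_sum, LinearMap.coe_comp, LinearEquiv.coe_coe, Function.comp_apply,
      LinearMap.rTensor_tmul, TensorProduct.lid_tmul, map_zero] at h1
    exact h1
  obtain ⟨m, hm⟩ := exists_le_of_forall_ne_le P D hPD
  refine ⟨m, sum_mul_eq_zero_of_forall_functional (F := F) (x m) (y m) fun l => ?_⟩
  have : L m l ∈ D m := hm ⟨l, rfl⟩
  exact this

/-- Nilpotency of a tensor over `k` passes to the tensor of bigger fields over a bigger base. -/
theorem isNilpotent_sum_tmul {k F K K' Ω Ω' : Type u} [Field k] [Field F] [Algebra k F]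
    [Field K] [Field K'] [Field Ω] [Field Ω'] [Algebra k K] [Algebra k K'] [Algebra k Ω]
    [Algebra k Ω'] [Algebra K Ω] [Algebra K' Ω'] [IsScalarTower k K Ω] [IsScalarTower k K' Ω']
    [Algebra F Ω] [Algebra F Ω'] [IsScalarTower k F Ω] [IsScalarTower k F Ω'] {ι : Type*}
    [Fintype ι] (u : ι → K) (v : ι → K')
    (h : IsNilpotent (∑ i, u i ⊗ₜ[k] v i : K ⊗[k] K')) :
    IsNilpotent (∑ i, algebraMap K Ω (u i) ⊗ₜ[F] algebraMap K' Ω' (v i) : Ω ⊗[F] Ω') := by
  let χ : K ⊗[k] K' →ₐ[k] Ω ⊗[F] Ω' :=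
    (Algebra.TensorProduct.mapOfCompatibleSMul F k k Ω Ω').comp
      (Algebra.TensorProduct.map (IsScalarTower.toAlgHom k K Ω) (IsScalarTower.toAlgHom k K' Ω'))
  have := h.map χ
  simpa [χ] using this

section Main

variable (A : Type u) [CommRing A] (k : Type u) [Field k] (K : ℕ → Type u) [∀ n, Field (K n)]
  [∀ n, Algebra A (K n)] [∀ n, Algebra k (K n)]

/-- The map `A ⊗ A ⟶ K n ⊗[k] K m` of the statement. -/
noncomputable abbrev Φ (n m : ℕ) : A ⊗[ℤ] A →+* K n ⊗[k] K m :=
  (Algebra.TensorProduct.lift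
    ((Algebra.TensorProduct.includeLeft (R := k) (S := ℤ) (A := K n) (B := K m)).toRingHom.toIntAlgHom.comp
      (Algebra.ofId A (K n)).toRingHom.toIntAlgHom)
    ((Algebra.TensorProduct.includeRight (R := k) (A := K n) (B := K m)).toRingHom.toIntAlgHom.comp
      (Algebra.ofId A (K m)).toRingHom.toIntAlgHom)
    (fun _ _ => Commute.all _ _)).toRingHom

theorem Φ_tmul (n m : ℕ) (a b : A) :
    Φ A k K n m (a ⊗ₜ b) = algebraMap A (K n) a ⊗ₜ[k] algebraMap A (K m) b := by
  simp [Φ, Algebra.ofId_apply]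

theorem main :
    (closure (⋃ (n : ℕ) (m : ℕ) (_ : n ≠ m),
        Set.range (PrimeSpectrum.comap (Φ A k K n m))) ∩
      Set.range (PrimeSpectrum.comap
        (Algebra.TensorProduct.lmul' (S := A) ℤ).toRingHom)).Nonempty := by
  classical
  set T : Set (PrimeSpectrum (A ⊗[ℤ] A)) := ⋃ (n : ℕ) (m : ℕ) (_ : n ≠ m),
        Set.range (PrimeSpectrum.comap (Φ A k K n m)) with hT
  let μ : A ⊗[ℤ] A →+* A := (Algebra.TensorProduct.lmul' (S := A) ℤ).toRingHom
  have hμs : Function.Surjective μ := fun a => ⟨a ⊗ₜ 1, by simp [μ]⟩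
  let J := PrimeSpectrum.vanishingIdeal T
  have hcl : closure T = PrimeSpectrum.zeroLocus J :=
    (PrimeSpectrum.zeroLocus_vanishingIdeal_eq_closure T).symm
  have key : J.map μ ≠ ⊤ := by
    intro htop
    have h1 : (1 : A) ∈ J.map μ := by rw [htop]; trivial
    obtain ⟨z, hzJ, hz1⟩ := (Ideal.mem_map_iff_of_surjective μ hμs).1 h1
    obtain ⟨S, hS⟩ := TensorProduct.exists_finset z
    have hnil : ∀ n m, n ≠ m → IsNilpotent (Φ A k K n m z) := by
      intro n m hnm
      rw [← mem_nilradical, nilradical_eq_sInf, Ideal.mem_sInf]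
      intro 𝔮 h𝔮
      have hmem : PrimeSpectrum.comap (Φ A k K n m) ⟨𝔮, h𝔮⟩ ∈ T := by
        rw [hT]
        exact Set.mem_iUnion.2 ⟨n, Set.mem_iUnion.2 ⟨m, Set.mem_iUnion.2 ⟨hnm, ⟨_, rfl⟩⟩⟩⟩
      exact (PrimeSpectrum.mem_vanishingIdeal T z).1 hzJ _ hmem
    -- the algebraically closed fields
    let F := AlgebraicClosure k
    let Ω : ℕ → Type u := fun n => AlgebraicClosure (K n)
    let ψ : ∀ n, F →ₐ[k] Ω n := fun n => IsAlgClosed.lift
    letI : ∀ n, Algebra F (Ω n) := fun n => (ψ n).toRingHom.toAlgebra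
    haveI : ∀ n, IsScalarTower k F (Ω n) := fun n =>
      IsScalarTower.of_algebraMap_eq (fun c => ((ψ n).commutes c).symm)
    let x : ∀ n, S → Ω n := fun n i => algebraMap (K n) (Ω n) (algebraMap A (K n) i.1.1)
    let y : ∀ n, S → Ω n := fun n i => algebraMap (K n) (Ω n) (algebraMap A (K n) i.1.2)
    have hΦz : ∀ n m, Φ A k K n m z =
        ∑ i : S, algebraMap A (K n) i.1.1 ⊗ₜ[k] algebraMap A (K m) i.1.2 := by
      intro n m
      rw [hS, map_sum, ← Finset.sum_coe_sort]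
      exact Finset.sum_congr rfl fun i _ => Φ_tmul A k K n m _ _
    obtain ⟨m, hm⟩ := exists_sum_mul_eq_zero (F := F) Ω x y (fun n m hnm => by
      have := hnil n m hnm
      rw [hΦz] at this
      exact isNilpotent_sum_tmul (F := F) (Ω := Ω n) (Ω' := Ω m) _ _ this)
    have hμz : μ z = ∑ i : S, i.1.1 * i.1.2 := by
      rw [hS, map_sum, ← Finset.sum_coe_sort S (fun i => μ (i.1 ⊗ₜ[ℤ] i.2))]
      refine Finset.sum_congr rfl fun i _ => ?_
      simp [μ]
    have h2 : ∑ i : S, x m i * y m i = algebraMap (K m) (Ω m) (algebraMap A (K m) (μ z)) := by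
      rw [hμz, map_sum, map_sum]
      refine Finset.sum_congr rfl fun i _ => ?_
      simp [x, y]
    rw [h2, hz1, map_one, map_one] at hm
    exact one_ne_zero hm
  obtain ⟨𝔪, h𝔪, hle⟩ := Ideal.exists_le_maximal _ key
  let x : PrimeSpectrum A := ⟨𝔪, h𝔪.isPrime⟩
  refine ⟨PrimeSpectrum.comap μ x, ?_, ⟨x, rfl⟩⟩
  rw [hcl, PrimeSpectrum.mem_zeroLocus]
  intro z hz
  show μ z ∈ 𝔪
  exact hle (Ideal.mem_map_of_mem μ hz)

end Main

end Groth.Agent.Helper2.TensorDiag
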