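import Mathlib

/-!
# The unramified locus under base change and formally etale extension (helper2)
-/

set_option autoImplicit false
set_option linter.style.haveILetI false
universe u
open TensorProduct

namespace Groth.Agent.Helper2.UnrLocus

theorem nontrivial_tensor_field_iff {B : Type u} [CommRing B] (M : Type u) [AddCommGroup M]
    [Module B M] [Module.Finite B M] (L : Type u) [Field L] [Algebra B L] (q : PrimeSpectrum B)
    (hq : RingHom.ker (algebraMap B L) = q.asIdeal) :
    Nontrivial (L ⊗[B] M) ↔ q ∈ Module.support B M := by
  have hle : q.asIdeal ≤ RingHom.ker (algebraMap B L) := hq.ge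
  have hunit : q.asIdeal.primeCompl ≤ (IsUnit.submonoid L).comap (algebraMap B L) := by
    intro x hx
    show IsUnit (algebraMap B L x)
    rw [isUnit_iff_ne_zero]
    intro h0
    exact hx (hq ▸ (RingHom.mem_ker.mpr h0))
  let φ : q.asIdeal.ResidueField →+* L :=
    Ideal.ResidueField.lift q.asIdeal (algebraMap B L) hle hunit
  letI : Algebra q.asIdeal.ResidueField L := φ.toAlgebra
  haveI : IsScalarTower B q.asIdeal.ResidueField L :=
    IsScalarTower.of_algebraMap_eq' (by
      ext r
      exact (Ideal.ResidueField.lift_algebraMap q.asIdeal (algebraMap B L) hle hunit r).symm)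
  let e := AlgebraTensorModule.cancelBaseChange B q.asIdeal.ResidueField L L M
  rw [← e.nontrivial_congr, Module.FaithfullyFlat.nontrivial_tensorProduct_iff_right,
    Module.mem_support_iff_nontrivial_residueField_tensorProduct]

theorem support_baseChange {B C : Type u} [CommRing B] [CommRing C] [Algebra B C] (M : Type u)
    [AddCommGroup M] [Module B M] [Module.Finite B M] :
    Module.support C (C ⊗[B] M) =
      PrimeSpectrum.comap (algebraMap B C) ⁻¹' Module.support B M := by
  ext r
  rw [Set.mem_preimage, Module.mem_support_iff_nontrivial_residueField_tensorProduct]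
  let L := r.asIdeal.ResidueField
  let e := AlgebraTensorModule.cancelBaseChange B C L L M
  rw [e.nontrivial_congr]
  refine nontrivial_tensor_field_iff M L _ ?_
  ext b
  rw [RingHom.mem_ker, PrimeSpectrum.comap_asIdeal, Ideal.mem_comap,
    IsScalarTower.algebraMap_apply B C L, Ideal.algebraMap_residueField_eq_zero]

open Algebra in
theorem unramifiedLocus_baseChange (A A' B B' : Type u) [CommRing A] [CommRing A'] [CommRing B]
    [CommRing B'] [Algebra A A'] [Algebra A B] [Algebra A' B'] [Algebra B B'] [Algebra A B']
    [IsScalarTower A A' B'] [IsScalarTower A B B'] [Algebra.IsPushout A A' B B']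
    [Algebra.FiniteType A B] :
    unramifiedLocus A' B' = PrimeSpectrum.comap (algebraMap B B') ⁻¹' unramifiedLocus A B := by
  rw [unramifiedLocus_eq_compl_support, unramifiedLocus_eq_compl_support, Set.preimage_compl,
    ← support_baseChange, (KaehlerDifferential.tensorKaehlerEquiv A A' B B').support_eq]

open Algebra in
theorem unramifiedLocus_of_formallyEtale (A B C : Type u) [CommRing A] [CommRing B] [CommRing C]
    [Algebra A B] [Algebra B C] [Algebra A C] [IsScalarTower A B C] [Algebra.FormallyEtale B C]
    [Algebra.FiniteType A B] :
    unramifiedLocus A C = PrimeSpectrum.comap (algebraMap B C) ⁻¹' unramifiedLocus A B := by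
  rw [unramifiedLocus_eq_compl_support, unramifiedLocus_eq_compl_support, Set.preimage_compl,
    ← support_baseChange,
    (KaehlerDifferential.tensorKaehlerEquivOfFormallyEtale A B C).support_eq]

end Groth.Agent.Helper2.UnrLocus
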